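import Mathlib.LinearAlgebra.Matrix.Determinant.Basic
import Mathlib.LinearAlgebra.Matrix.ToLin
import Mathlib.RingTheory.Ideal.Maps
import Mathlib.RingTheory.Finiteness.Basic
import Mathlib.RingTheory.Ideal.BigOperators
import Mathlib.LinearAlgebra.Multilinear.Basic
import Mathlib.LinearAlgebra.Alternating.Basic

/-!
Ideals of minors of a matrix.
-/

set_option autoImplicit false
universe u v w

namespace K821.Minors

variable {R : Type u} [CommRing R] {ι : Type v} {κ : Type w}

/-- A multilinear map evaluated at vectors lying in the span of `s` lies in the span of its values at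
tuples of elements of `s`. -/
theorem multilinear_mem_span {ι V W : Type*} [Fintype ι] [DecidableEq ι] [AddCommGroup V]
    [Module R V] [AddCommGroup W] [Module R W] (f : MultilinearMap R (fun _ : ι => V) W) (s : Set V)
    (v : ι → V) (hv : ∀ i, v i ∈ Submodule.span R s) :
    f v ∈ Submodule.span R {w | ∃ u : ι → V, (∀ i, u i ∈ s) ∧ f u = w} := by
  have key : ∀ (t : Finset ι) (v : ι → V), (∀ i ∈ t, v i ∈ Submodule.span R s) →
      (∀ i ∉ t, v i ∈ s) → f v ∈ Submodule.span R {w | ∃ u : ι → V, (∀ i, u i ∈ s) ∧ f u = w} := by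
    intro t
    induction t using Finset.induction_on with
    | empty =>
      intro v _ h
      exact Submodule.subset_span ⟨v, fun i => h i (by simp), rfl⟩
    | insert i t hi ih =>
      intro v h1 h2
      have h3 : f v = f.toLinearMap v i (v i) := by simp
      rw [h3]
      have h4 : f.toLinearMap v i (v i) ∈ (Submodule.span R s).map (f.toLinearMap v i) :=
        ⟨_, h1 i (by simp), rfl⟩
      rw [Submodule.map_span] at h4
      refine Submodule.span_le.mpr ?_ h4
      rintro _ ⟨w, hw, rfl⟩
      refine ih (Function.update v i w) (fun j hj => ?_) (fun j hj => ?_)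
      · have : j ≠ i := fun h => hi (h ▸ hj)
        rw [Function.update_of_ne this]
        exact h1 j (Finset.mem_insert_of_mem hj)
      · by_cases hji : j = i
        · subst hji; simpa using hw
        · rw [Function.update_of_ne hji]
          exact h2 j (by simp [hji, hj])
  exact key Finset.univ v (fun i _ => hv i) (fun i hi => absurd (Finset.mem_univ i) hi)

/-- the ideal of `r × r` minors -/
def minorIdeal (r : ℕ) (X : Matrix ι κ R) : Ideal R :=
  Ideal.span {d | ∃ (e : Fin r → ι) (f : Fin r → κ), (X.submatrix e f).det = d}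

theorem minor_mem (r : ℕ) (X : Matrix ι κ R) (e : Fin r → ι) (f : Fin r → κ) :
    (X.submatrix e f).det ∈ minorIdeal r X :=
  Ideal.subset_span ⟨e, f, rfl⟩

theorem minorIdeal_le_iff (r : ℕ) (X : Matrix ι κ R) (I : Ideal R) :
    minorIdeal r X ≤ I ↔ ∀ (e : Fin r → ι) (f : Fin r → κ), (X.submatrix e f).det ∈ I := by
  constructor
  · intro h e f
    exact h (minor_mem r X e f)
  · intro h
    refine Ideal.span_le.mpr ?_
    rintro _ ⟨e, f, rfl⟩
    exact h e f

theorem minorIdeal_transpose (r : ℕ) (X : Matrix ι κ R) :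
    minorIdeal r X.transpose = minorIdeal r X := by
  refine le_antisymm ?_ ?_
  · rw [minorIdeal_le_iff]
    intro e f
    have : (X.transpose.submatrix e f) = (X.submatrix f e).transpose := rfl
    rw [this, Matrix.det_transpose]
    exact minor_mem r X f e
  · rw [minorIdeal_le_iff]
    intro e f
    have : (X.submatrix e f) = (X.transpose.submatrix f e).transpose := rfl
    rw [this, Matrix.det_transpose]
    exact minor_mem r X.transpose f e

theorem minorIdeal_map {S : Type*} [CommRing S] (φ : R →+* S) (r : ℕ) (X : Matrix ι κ R) :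
    minorIdeal r (X.map φ) = (minorIdeal r X).map φ := by
  unfold minorIdeal
  rw [Ideal.map_span]
  congr 1
  ext d
  constructor
  · rintro ⟨e, f, rfl⟩
    refine ⟨_, ⟨e, f, rfl⟩, ?_⟩
    rw [RingHom.map_det]
    rfl
  · rintro ⟨_, ⟨e, f, rfl⟩, rfl⟩
    refine ⟨e, f, ?_⟩
    rw [RingHom.map_det]
    rfl

theorem minorIdeal_fg [Finite ι] [Finite κ] (r : ℕ) (X : Matrix ι κ R) : (minorIdeal r X).FG := by
  refine Submodule.fg_span ?_
  have h1 : {d | ∃ (e : Fin r → ι) (f : Fin r → κ), (X.submatrix e f).det = d} =
      Set.range fun p : (Fin r → ι) × (Fin r → κ) => (X.submatrix p.1 p.2).det := by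
    ext d
    constructor
    · rintro ⟨e, f, h⟩
      exact ⟨(e, f), h⟩
    · rintro ⟨p, h⟩
      exact ⟨p.1, p.2, h⟩
  rw [h1]
  exact Set.finite_range _

/-- determinants whose rows are in the span of the rows indexed by `κ` -/
theorem det_mem_of_rows (r : ℕ) (w : κ → (Fin r → R)) (a : Matrix (Fin r) (Fin r) R)
    (ha : ∀ i, (fun j => a i j) ∈ Submodule.span R (Set.range w)) (I : Ideal R)
    (hI : ∀ f : Fin r → κ, (Matrix.of fun i j => w (f i) j).det ∈ I) : a.det ∈ I := by
  have h := multilinear_mem_span (Matrix.detRowAlternating (n := Fin r) (R := R)).toMultilinearMap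
    (Set.range w) (fun i j => a i j) ha
  refine Submodule.span_le.mpr ?_ h
  rintro _ ⟨u, hu, rfl⟩
  choose f hf using hu
  have : u = fun i j => w (f i) j := by
    funext i j
    rw [hf]
  rw [this]
  exact hI f

variable {μ : Type*}

theorem minorIdeal_mul_le_left [Fintype κ] (r : ℕ) (X : Matrix ι κ R) (Y : Matrix κ μ R) :
    minorIdeal r (X * Y) ≤ minorIdeal r X := by
  rw [minorIdeal_le_iff]
  intro e f
  rw [← Matrix.det_transpose]
  refine det_mem_of_rows r (fun k : κ => fun i : Fin r => X (e i) k) _ ?_ _ ?_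
  · intro j
    have h : (fun i => ((X * Y).submatrix e f).transpose j i) =
        ∑ k : κ, Y k (f j) • (fun i : Fin r => X (e i) k) := by
      funext i
      simp only [Matrix.transpose_apply, Matrix.submatrix_apply, Matrix.mul_apply, Finset.sum_apply,
        Pi.smul_apply, smul_eq_mul]
      exact Finset.sum_congr rfl fun k _ => mul_comm _ _
    rw [h]
    exact Submodule.sum_mem _ fun k _ => Submodule.smul_mem _ _ (Submodule.subset_span ⟨k, rfl⟩)
  · intro g
    have h : (Matrix.of fun i j => X (e j) (g i)) = (X.submatrix e g).transpose := rfl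
    rw [h, Matrix.det_transpose]
    exact minor_mem r X e g

theorem minorIdeal_mul_le_right [Fintype κ] (r : ℕ) (X : Matrix ι κ R) (Y : Matrix κ μ R) :
    minorIdeal r (X * Y) ≤ minorIdeal r Y := by
  rw [← minorIdeal_transpose r Y, ← minorIdeal_transpose r (X * Y), Matrix.transpose_mul]
  exact minorIdeal_mul_le_left r _ _

theorem minorIdeal_eq_bot_of_card_lt_right [Fintype κ] (r : ℕ) (X : Matrix ι κ R)
    (h : Fintype.card κ < r) : minorIdeal r X = ⊥ := by
  rw [eq_bot_iff, minorIdeal_le_iff]
  intro e f
  obtain ⟨i, j, hij, hf⟩ := Fintype.exists_ne_map_eq_of_card_lt f (by simpa using h)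
  rw [Submodule.mem_bot]
  refine Matrix.det_zero_of_column_eq hij fun k => ?_
  simp only [Matrix.submatrix_apply]
  rw [hf]

theorem minorIdeal_eq_bot_of_card_lt_left [Fintype ι] (r : ℕ) (X : Matrix ι κ R)
    (h : Fintype.card ι < r) : minorIdeal r X = ⊥ := by
  rw [← minorIdeal_transpose]
  exact minorIdeal_eq_bot_of_card_lt_right r _ h

theorem minorIdeal_succ_le (r : ℕ) (X : Matrix ι κ R) : minorIdeal (r + 1) X ≤ minorIdeal r X := by
  rw [minorIdeal_le_iff]
  intro e f
  rw [Matrix.det_succ_row_zero]
  refine Ideal.sum_mem _ fun j _ => Ideal.mul_mem_left _ _ ?_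
  exact minor_mem r X (e ∘ Fin.succ) (f ∘ j.succAbove)

theorem minorIdeal_antitone (X : Matrix ι κ R) : Antitone fun r => minorIdeal r X :=
  antitone_nat_of_succ_le fun r => minorIdeal_succ_le r X

theorem minorIdeal_zero (X : Matrix ι κ R) : minorIdeal 0 X = ⊤ := by
  rw [Ideal.eq_top_iff_one]
  have h := minor_mem 0 X Fin.elim0 Fin.elim0
  rwa [Matrix.det_fin_zero] at h

/-- the maximal minors of a square matrix -/
theorem minorIdeal_square {r : ℕ} (X : Matrix (Fin r) (Fin r) R) :
    minorIdeal r X = Ideal.span {X.det} := by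
  refine le_antisymm ?_ ?_
  · rw [minorIdeal_le_iff]
    intro e f
    have h1 : X.submatrix e f = ((1 : Matrix (Fin r) (Fin r) R).submatrix e id) *
        (X * ((1 : Matrix (Fin r) (Fin r) R).submatrix id f)) := by
      ext i j
      simp [Matrix.mul_apply, Matrix.one_apply]
    rw [h1, Matrix.det_mul, Matrix.det_mul]
    exact Ideal.mul_mem_left _ _ (Ideal.mul_mem_right _ _ (Ideal.mem_span_singleton_self _))
  · rw [Ideal.span_singleton_le_iff_mem]
    exact minor_mem r X id id

end K821.Minors
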