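import Groth.Agent.S6889
import Groth.Agent.QuotLF.K821.Minors
import Mathlib.LinearAlgebra.Dual.Defs
import Mathlib.LinearAlgebra.StdBasis

/-!
Fitting ideals of cokernels as ideals of minors.
-/

set_option autoImplicit false
universe u v

namespace K821.FittMinors

open K821.Minors

variable {R : Type u} [CommRing R]

/-- interface -/
theorem fitt_eq {M : Type u} [AddCommGroup M] [Module R M]
    {n : ℕ} (x : Fin n → M) (hx : Submodule.span R (Set.range x) = ⊤) (k : ℕ) :
    Fitt.ideal R M k = Ideal.span {d | ∃ (z : Fin (n - k) → (Fin n → R)) (e : Fin (n - k) → Fin n),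
      (∀ j, ∑ i, z j i • x i = 0) ∧ d = (Matrix.of fun a b => z b (e a)).det} :=
  Groth.Agent.S6889.result x hx k

theorem fitt_of_rel {M : Type u} [AddCommGroup M] [Module R M]
    {n : ℕ} (x : Fin n → M) (hx : Submodule.span R (Set.range x) = ⊤) {κ : Type v} (w : κ → (Fin n → R))
    (hw : ∀ c : Fin n → R, ∑ i, c i • x i = 0 ↔ c ∈ Submodule.span R (Set.range w)) (k : ℕ) :
    Fitt.ideal R M k = minorIdeal (n - k) (Matrix.of fun i j => w j i) := by
  rw [fitt_eq x hx k]
  refine le_antisymm (Ideal.span_le.mpr ?_) ?_
  · rintro _ ⟨z, e, hz, rfl⟩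
    rw [← Matrix.det_transpose]
    refine det_mem_of_rows (n - k) (fun k : κ => fun a => w k (e a)) _ ?_ _ ?_
    · intro b
      have h1 := (hw (z b)).mp (hz b)
      let L : (Fin n → R) →ₗ[R] (Fin (n - k) → R) := LinearMap.funLeft R R e
      have h2 : L (z b) ∈ (Submodule.span R (Set.range w)).map L := ⟨_, h1, rfl⟩
      rw [Submodule.map_span, ← Set.range_comp] at h2
      exact h2
    · intro g
      have h : (Matrix.of fun i j => w (g i) (e j)) =
          ((Matrix.of fun i j => w j i : Matrix (Fin n) κ R).submatrix e g).transpose := rfl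
      rw [h, Matrix.det_transpose]
      exact minor_mem _ _ e g
  · rw [minorIdeal_le_iff]
    intro e f
    refine Ideal.subset_span ⟨fun b => w (f b), e, fun j => ?_, rfl⟩
    rw [hw]
    exact Submodule.subset_span ⟨_, rfl⟩

theorem fitt_coker {m n : ℕ} (σ : (Fin m → R) →ₗ[R] (Fin n → R)) (k : ℕ) :
    Fitt.ideal R ((Fin n → R) ⧸ LinearMap.range σ) k = minorIdeal (n - k) (LinearMap.toMatrix' σ) := by
  have hx : Submodule.span R (Set.range fun i : Fin n =>
      (LinearMap.range σ).mkQ (Pi.single i (1 : R))) = ⊤ := by
    have h1 : (Set.range fun i : Fin n => (LinearMap.range σ).mkQ (Pi.single i (1 : R))) =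
        (LinearMap.range σ).mkQ '' (Set.range fun i : Fin n => (Pi.single i (1 : R) : Fin n → R)) := by
      rw [← Set.range_comp]; rfl
    have h2 : Submodule.span R (Set.range fun i : Fin n => (Pi.single i (1 : R) : Fin n → R)) = ⊤ := by
      have := (Pi.basisFun R (Fin n)).span_eq
      rw [← this]
      congr 1
      congr 1
      funext i
      simp
    rw [h1, Submodule.span_image, h2, Submodule.map_top, Submodule.range_mkQ]
  rw [fitt_of_rel _ hx (fun j : Fin m => σ (Pi.single j 1)) ?_ k]
  · congr 1
  · intro c
    have h1 : ∑ i, c i • (LinearMap.range σ).mkQ (Pi.single i (1 : R)) = (LinearMap.range σ).mkQ c := by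
      conv_rhs => rw [← Finset.univ_sum_single c]
      rw [map_sum]
      refine Finset.sum_congr rfl fun i _ => ?_
      rw [← map_smul]
      congr 1
      ext l
      simp [Pi.single_apply]
    rw [h1, Submodule.mkQ_apply, Submodule.Quotient.mk_eq_zero]
    have h2 : Submodule.span R (Set.range fun j : Fin m => σ (Pi.single j 1)) = LinearMap.range σ := by
      rw [LinearMap.range_eq_map, ← (Pi.basisFun R (Fin m)).span_eq, ← Submodule.span_image, ← Set.range_comp]
      congr 1
      congr 1
      funext j
      simp
    rw [h2]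

theorem fitt_coker_dual {m n : ℕ} (σ : (Fin m → R) →ₗ[R] (Fin n → R)) (k : ℕ) :
    Fitt.ideal R (Module.Dual R (Fin m → R) ⧸ LinearMap.range σ.dualMap) k =
      minorIdeal (m - k) (LinearMap.toMatrix' σ) := by
  have hx : Submodule.span R (Set.range fun i : Fin m =>
      (LinearMap.range σ.dualMap).mkQ (LinearMap.proj i : Module.Dual R (Fin m → R))) = ⊤ := by
    have h1 : (Set.range fun i : Fin m => (LinearMap.range σ.dualMap).mkQ
        (LinearMap.proj i : Module.Dual R (Fin m → R))) =
        (LinearMap.range σ.dualMap).mkQ '' (Set.range fun i : Fin m => (LinearMap.proj i : Module.Dual R (Fin m → R))) := by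
      rw [← Set.range_comp]; rfl
    have h2 : Submodule.span R (Set.range fun i : Fin m => (LinearMap.proj i : Module.Dual R (Fin m → R))) = ⊤ := by
      rw [eq_top_iff]
      intro φ _
      have h3 : φ = ∑ i, φ (Pi.single i 1) • (LinearMap.proj i : Module.Dual R (Fin m → R)) := by
        apply LinearMap.pi_ext
        intro i x
        simp only [LinearMap.sum_apply, LinearMap.smul_apply, LinearMap.proj_apply, smul_eq_mul]
        rw [Finset.sum_eq_single i]
        · rw [Pi.single_eq_same, mul_comm, ← smul_eq_mul, ← map_smul]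
          congr 1
          ext l
          simp [Pi.single_apply]
        · intro j _ hj
          rw [Pi.single_eq_of_ne hj, mul_zero]
        · intro h; exact absurd (Finset.mem_univ i) h
      rw [h3]
      exact Submodule.sum_mem _ fun i _ => Submodule.smul_mem _ _ (Submodule.subset_span ⟨i, rfl⟩)
    rw [h1, Submodule.span_image, h2, Submodule.map_top, Submodule.range_mkQ]
  rw [fitt_of_rel _ hx (fun j : Fin n => fun i : Fin m => σ (Pi.single i 1) j) ?_ k]
  · rw [← minorIdeal_transpose]
    congr 1
  · intro c
    have h1 : ∑ i, c i • (LinearMap.range σ.dualMap).mkQ (LinearMap.proj i : Module.Dual R (Fin m → R)) =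
        (LinearMap.range σ.dualMap).mkQ (∑ i, c i • (LinearMap.proj i : Module.Dual R (Fin m → R))) := by
      rw [map_sum]
      refine Finset.sum_congr rfl fun i _ => ?_
      rw [map_smul]
    rw [h1, Submodule.mkQ_apply, Submodule.Quotient.mk_eq_zero, Submodule.mem_span_range_iff_exists_fun]
    have key : ∀ (b : Fin n → R), (∑ j, b j • (fun i : Fin m => σ (Pi.single i 1) j) = c ↔
        σ.dualMap (∑ j, b j • (LinearMap.proj j : Module.Dual R (Fin n → R))) =
          ∑ i, c i • (LinearMap.proj i : Module.Dual R (Fin m → R))) := by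
      intro b
      have h4 : ∀ i : Fin m, (∑ j, b j • (fun i : Fin m => σ (Pi.single i 1) j)) i =
          σ.dualMap (∑ j, b j • (LinearMap.proj j : Module.Dual R (Fin n → R))) (Pi.single i 1) := by
        intro i
        simp [LinearMap.dualMap_apply, Finset.sum_apply]
      have h5 : ∀ i : Fin m, c i = (∑ i, c i • (LinearMap.proj i : Module.Dual R (Fin m → R))) (Pi.single i 1) := by
        intro i
        simp [LinearMap.sum_apply, Pi.single_apply]
      constructor
      · intro h
        apply LinearMap.pi_ext'
        intro i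
        apply LinearMap.ext_ring
        simp only [LinearMap.comp_apply, LinearMap.coe_single]
        rw [← h4, ← h5, h]
      · intro h
        funext i
        rw [h4, h5, h]
    constructor
    · rintro ⟨ψ, hψ⟩
      refine ⟨fun j => ψ (Pi.single j 1), ?_⟩
      rw [key, ← hψ]
      congr 1
      apply LinearMap.pi_ext'
      intro i
      apply LinearMap.ext_ring
      simp [Pi.single_apply]
    · rintro ⟨b, hb⟩
      exact ⟨_, (key b).mp hb⟩

end K821.FittMinors
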