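import Groth.Agent.QuotLF.K821.GraphForm
import Mathlib.RingTheory.Flat.TorsionFree

/-!
Matrices with principal ideal of minors.
-/

set_option autoImplicit false
universe u v w

namespace K821.MinorRank

open Groth.Agent.Fga.GrassBasic Matrix K821.Minors K821.GraphForm

section Border

variable {A : Type*} [CommRing A] {ι κ : Type*} {r : ℕ}

/-- expansion of a bordered minor -/
theorem bordered (σ : Matrix ι κ A) (h0 : minorIdeal (r + 1) σ = ⊥) (ρ : Fin r → ι) (c : Fin r → κ)
    (i : ι) (j : κ) : (σ.submatrix ρ c).det * σ i j =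
      ∑ k, (σ.submatrix (Function.update ρ k i) c).det * σ (ρ k) j := by
  have h1 : (σ.submatrix (Fin.cons i ρ : Fin (r + 1) → ι) (Fin.cons j c : Fin (r + 1) → κ)).det = 0 := by
    have h2 := minor_mem (r + 1) σ (Fin.cons i ρ : Fin (r + 1) → ι) (Fin.cons j c : Fin (r + 1) → κ)
    rwa [h0, Ideal.mem_bot] at h2
  rw [Matrix.det_succ_column_zero, Fin.sum_univ_succ] at h1
  have h3 : ∀ k : Fin r, ((σ.submatrix (Fin.cons i ρ : Fin (r + 1) → ι) (Fin.cons j c : Fin (r + 1) → κ)).submatrix
      k.succ.succAbove Fin.succ).det = (-1) ^ (k : ℕ) * (σ.submatrix (Function.update ρ k i) c).det := by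
    intro k
    have h4 : σ.submatrix (Function.update ρ k i) c =
        ((σ.submatrix (Fin.cons i ρ : Fin (r + 1) → ι) (Fin.cons j c : Fin (r + 1) → κ)).submatrix
          k.succ.succAbove Fin.succ).submatrix k.cycleRange id := by
      ext a b
      simp only [Matrix.submatrix_apply, Fin.succAbove_cycleRange, id, Fin.cons_succ]
      congr 1
      by_cases hak : a = k
      · subst hak
        rw [Function.update_self, Equiv.swap_apply_right, Fin.cons_zero]
      · rw [Function.update_of_ne hak, Equiv.swap_apply_of_ne_of_ne (Fin.succ_ne_zero a)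
          (fun h => hak (Fin.succ_injective _ h)), Fin.cons_succ]
    rw [h4, Matrix.det_permute, Fin.sign_cycleRange]
    have h5 : ((((-1 : ℤˣ) ^ (k : ℕ) : ℤˣ) : ℤ) : A) = (-1 : A) ^ (k : ℕ) := by
      push_cast
      rfl
    rw [h5, ← mul_assoc, ← mul_pow]
    simp
  have h6 : ((σ.submatrix (Fin.cons i ρ : Fin (r + 1) → ι) (Fin.cons j c : Fin (r + 1) → κ)).submatrix
      (Fin.succAbove 0) Fin.succ) = σ.submatrix ρ c := by
    ext a b
    simp
  rw [h6] at h1
  simp only [h3, Matrix.submatrix_apply, Fin.cons_zero, Fin.cons_succ, Fin.val_zero, pow_zero, one_mul,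
    Fin.val_succ] at h1
  rw [mul_comm, eq_neg_of_add_eq_zero_left h1, ← Finset.sum_neg_distrib]
  refine Finset.sum_congr rfl fun k _ => ?_
  have h7 : (-1 : A) ^ (k : ℕ) * (-1 : A) ^ (k : ℕ) = 1 := by
    rw [← mul_pow]
    simp
  linear_combination (σ (ρ k) j * (σ.submatrix (Function.update ρ k i) c).det) * h7

end Border

section Core

variable {A : Type*} [CommRing A] {ι κ : Type*} [Fintype κ] {r : ℕ}

/-- The graph attached to a matrix whose minors are generated by a given nonzerodivisor minor. -/
theorem exists_graph (σ : Matrix ι κ A) (ρ : Fin r → ι) (c : Fin r → κ)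
    (hΔ : (σ.submatrix ρ c).det ∈ nonZeroDivisors A)
    (h1 : minorIdeal r σ ≤ Ideal.span {(σ.submatrix ρ c).det}) (h0 : minorIdeal (r + 1) σ = ⊥) :
    ∃ G : Matrix ι (Fin r) A, G.submatrix ρ id = 1 ∧ σ = G * σ.submatrix ρ id ∧
      ∀ v : ι → A, (σ.submatrix ρ c).det • v ∈ rangeM σ ↔ v ∈ rangeM G := by
  classical
  have h2 : ∀ (i : ι) (k : Fin r), ∃ g : A, (σ.submatrix (Function.update ρ k i) c).det =
      (σ.submatrix ρ c).det * g := by
    intro i k
    exact Ideal.mem_span_singleton.1 (h1 (minor_mem r σ _ c))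
  choose G hG using h2
  have hcancel : ∀ x y : A, (σ.submatrix ρ c).det * x = (σ.submatrix ρ c).det * y → x = y := by
    intro x y h
    exact (mul_cancel_left_mem_nonZeroDivisors hΔ).1 h
  have hG1 : (Matrix.of G).submatrix ρ id = 1 := by
    ext l k
    apply hcancel
    rw [Matrix.submatrix_apply, id, Matrix.of_apply, ← hG, Matrix.one_apply]
    split_ifs with hlk
    · subst hlk
      rw [Function.update_eq_self, mul_one]
    · rw [mul_zero]
      refine Matrix.det_zero_of_row_eq (i := k) (j := l) (Ne.symm hlk) ?_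
      ext b
      rw [Matrix.submatrix_apply, Matrix.submatrix_apply, Function.update_self, Function.update_of_ne hlk]
  have hσ : σ = Matrix.of G * σ.submatrix ρ id := by
    ext i j
    apply hcancel
    rw [bordered σ h0 ρ c i j, Matrix.mul_apply, Finset.mul_sum]
    refine Finset.sum_congr rfl fun k _ => ?_
    rw [hG, Matrix.of_apply, Matrix.submatrix_apply, id]
    ring
  refine ⟨Matrix.of G, hG1, hσ, fun v => ?_⟩
  constructor
  · rintro ⟨w, hw⟩
    rw [Matrix.mulVecLin_apply] at hw
    refine ⟨v ∘ ρ, ?_⟩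
    rw [Matrix.mulVecLin_apply]
    ext i
    apply hcancel
    have h3 : σ *ᵥ w = Matrix.of G *ᵥ (σ.submatrix ρ id *ᵥ w) := by
      rw [Matrix.mulVec_mulVec, ← hσ]
    have h4 : σ.submatrix ρ id *ᵥ w = (σ.submatrix ρ c).det • (v ∘ ρ) := by
      have h5 : σ.submatrix ρ id *ᵥ w = (σ *ᵥ w) ∘ ρ := rfl
      rw [h5, hw]
      rfl
    rw [h4, Matrix.mulVec_smul, hw] at h3
    exact (congrFun h3 i).symm
  · rintro ⟨w, rfl⟩
    rw [Matrix.mulVecLin_apply]
    let w' : Fin r → A := (σ.submatrix ρ c).adjugate *ᵥ w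
    refine ⟨∑ l, w' l • Pi.single (c l) 1, ?_⟩
    have h6 : σ.submatrix ρ id *ᵥ (∑ l, w' l • (Pi.single (c l) 1 : κ → A)) = (σ.submatrix ρ c).det • w := by
      have h7 : σ.submatrix ρ id *ᵥ (∑ l, w' l • (Pi.single (c l) 1 : κ → A)) = σ.submatrix ρ c *ᵥ w' := by
        rw [← Matrix.mulVecLin_apply, map_sum]
        ext k
        rw [Finset.sum_apply]
        simp only [map_smul, Matrix.mulVecLin_apply, Matrix.mulVec_single_one, Pi.smul_apply, Matrix.col_apply,
          Matrix.submatrix_apply, id, smul_eq_mul, Matrix.mulVec, dotProduct]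
        exact Finset.sum_congr rfl fun l _ => mul_comm _ _
      rw [h7, Matrix.mulVec_mulVec, Matrix.mul_adjugate, Matrix.smul_mulVec, Matrix.one_mulVec]
    rw [Matrix.mulVecLin_apply]
    conv_lhs => rw [hσ, ← Matrix.mulVec_mulVec, h6]
    rw [Matrix.mulVec_smul]

end Core

section Principal

variable {A : Type*} [CommRing A] {ι κ : Type*} [Fintype κ] [Fintype ι] {r : ℕ}

omit [Fintype κ] [Fintype ι] in
/-- If the columns and the rows of a matrix lie in graphs of rank `r`, then the ideal of `r`-minors is principal. -/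
theorem minorIdeal_eq_span (σ : Matrix ι κ A) {ρ : Fin r → ι} {c : Fin r → κ} {G : Matrix ι (Fin r) A}
    {H : Matrix κ (Fin r) A} {L : Submodule A (ι → A)} {L' : Submodule A (κ → A)} (hL : IsGraphOf ρ G L)
    (hL' : IsGraphOf c H L') (hσ : ∀ j, (fun i => σ i j) ∈ L) (hσ' : ∀ i, (fun j => σ i j) ∈ L') :
    minorIdeal r σ = Ideal.span {(σ.submatrix ρ c).det} := by
  have h1 : σ = G * σ.submatrix ρ id := by
    ext i j
    have h2 := (hL.mem_iff _).1 (hσ j)
    have h3 := congrFun h2 i
    rw [Matrix.mul_apply]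
    exact h3
  have h2 : σ.submatrix ρ id = σ.submatrix ρ c * H.transpose := by
    ext k j
    have h3 := (hL'.mem_iff _).1 (hσ' (ρ k))
    have h4 := congrFun h3 j
    rw [Matrix.submatrix_apply, id, Matrix.mul_apply]
    refine h4.trans ?_
    simp only [Matrix.mulVec, dotProduct, Function.comp_apply, Matrix.transpose_apply, Matrix.submatrix_apply]
    exact Finset.sum_congr rfl fun l _ => mul_comm _ _
  apply le_antisymm
  · conv_lhs => rw [h1, h2]
    refine (minorIdeal_mul_le_right r _ _).trans ((minorIdeal_mul_le_left r _ _).trans ?_)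
    rw [minorIdeal_square]
  · rw [Ideal.span_singleton_le_iff_mem]
    exact minor_mem r σ ρ c

end Principal

section Univ

variable {A : Type u} [CommRing A] {ι κ : Type} [Fintype κ] [Fintype ι] [DecidableEq ι] {r : ℕ}

/-- The saturation of the range of `σ` with respect to `t`. -/
def satM (t : A) (σ : Matrix ι κ A) : Submodule A (ι → A) := (rangeM σ).comap (LinearMap.lsmul A (ι → A) t)

omit [Fintype ι] [DecidableEq ι] in
theorem mem_satM {t : A} {σ : Matrix ι κ A} {v : ι → A} : v ∈ satM t σ ↔ t • v ∈ rangeM σ := Iff.rfl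

omit [DecidableEq ι] in
theorem bc_satM (t : A) (σ : Matrix ι κ A) (S : Submonoid A) (B : Type u) [CommRing B] [Algebra A B]
    [IsLocalization S B] : bc (algebraMap A B) (satM t σ) = satM (algebraMap A B t) (σ.map (algebraMap A B)) := by
  apply le_antisymm
  · rw [bc_le_iff]
    rintro v ⟨w, hw⟩
    refine ⟨fun j => algebraMap A B (w j), ?_⟩
    ext i
    have h1 := congrFun hw i
    rw [Matrix.mulVecLin_apply] at h1 ⊢
    have h2 := RingHom.map_mulVec (algebraMap A B) σ w i
    rw [h1] at h2
    refine h2.symm.trans ?_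
    change algebraMap A B (t * v i) = algebraMap A B t * algebraMap A B (v i)
    rw [map_mul]
  · intro w hw
    obtain ⟨x, hx⟩ := hw
    rw [Matrix.mulVecLin_apply] at hx
    -- common denominators
    obtain ⟨s, hs⟩ := IsLocalization.exist_integer_multiples_of_finite S (Sum.elim w x)
    choose y hy using hs
    let v : ι → A := fun i => y (Sum.inl i)
    let z : κ → A := fun j => y (Sum.inr j)
    have hv : ∀ i, algebraMap A B (v i) = algebraMap A B s * w i := by
      intro i
      rw [hy (Sum.inl i), Algebra.smul_def]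
      rfl
    have hz : ∀ j, algebraMap A B (z j) = algebraMap A B s * x j := by
      intro j
      rw [hy (Sum.inr j), Algebra.smul_def]
      rfl
    have h1 : ∀ i, algebraMap A B (t * v i) = algebraMap A B ((σ *ᵥ z) i) := by
      intro i
      have h2 := RingHom.map_mulVec (algebraMap A B) σ z i
      rw [h2, map_mul, hv]
      have h3 : (fun j => algebraMap A B (z j)) = algebraMap A B s • x := by
        ext j
        rw [hz]
        rfl
      have h4 : (algebraMap A B ∘ z) = algebraMap A B s • x := h3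
      rw [h4, Matrix.mulVec_smul, hx]
      change _ = algebraMap A B s * (algebraMap A B t * w i)
      ring
    have h2 : ∀ i, ∃ u : S, (u : A) * (t * v i) = u * (σ *ᵥ z) i := fun i =>
      (IsLocalization.eq_iff_exists S B).1 (h1 i)
    choose u hu using h2
    let U : A := ∏ i, (u i : A)
    have hU : U ∈ S := S.prod_mem fun i _ => (u i).2
    have h3 : ∀ i, U * (t * v i) = U * (σ *ᵥ z) i := by
      intro i
      classical
      have : U = (∏ j ∈ Finset.univ.erase i, (u j : A)) * (u i : A) := by
        rw [mul_comm, Finset.mul_prod_erase Finset.univ (fun j => (u j : A)) (Finset.mem_univ i)]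
      rw [this, mul_assoc, hu, ← mul_assoc]
    have h4 : U • v ∈ satM t σ := by
      refine ⟨U • z, ?_⟩
      rw [Matrix.mulVecLin_apply, Matrix.mulVec_smul]
      ext i
      change U * (σ *ᵥ z) i = t * (U * v i)
      rw [← h3]
      ring
    rw [mem_bc_localization_iff S]
    refine ⟨U * s, S.mul_mem hU s.2, U • v, h4, ?_⟩
    ext i
    change algebraMap A B (U * s) * w i = algebraMap A B (U * v i)
    rw [map_mul, map_mul, hv, mul_assoc]

omit [DecidableEq ι] in
/-- **Existence and uniqueness** of the quotient of expected rank when the ideal of minors is generated by a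
nonzerodivisor. -/
theorem isQuotRank_satM (σ : Matrix ι κ A) (t : A) (ht : t ∈ nonZeroDivisors A)
    (h1 : minorIdeal r σ = Ideal.span {t}) (h0 : minorIdeal (r + 1) σ = ⊥) {d : ℕ}
    (hd : d + r = Fintype.card ι) : IsQuotRank d (satM t σ) := by
  classical
  -- the minors are multiples of `t` by elements generating the unit ideal
  have h2 : ∀ q : (Fin r → ι) × (Fin r → κ), ∃ a : A, (σ.submatrix q.1 q.2).det = t * a := by
    intro q
    exact Ideal.mem_span_singleton.1 (h1.le (minor_mem r σ q.1 q.2))
  choose a ha using h2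
  let N := Fintype.card ((Fin r → ι) × (Fin r → κ))
  let ε : Fin N ≃ (Fin r → ι) × (Fin r → κ) := (Fintype.equivFin _).symm
  have hspan : Ideal.span (Set.range fun i => a (ε i)) = ⊤ := by
    have h3 : minorIdeal r σ ≤ Ideal.span {t} * Ideal.span (Set.range fun i => a (ε i)) := by
      rw [minorIdeal_le_iff]
      intro e f
      rw [Ideal.mem_span_singleton_mul]
      refine ⟨a (e, f), Ideal.subset_span ⟨ε.symm (e, f), by simp⟩, ?_⟩
      rw [← ha]
    have h4 : t ∈ Ideal.span {t} * Ideal.span (Set.range fun i => a (ε i)) :=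
      h3 (h1.ge (Ideal.mem_span_singleton_self t))
    rw [Ideal.mem_span_singleton_mul] at h4
    obtain ⟨z, hz, hz'⟩ := h4
    have h5 : z = 1 := (mul_cancel_left_mem_nonZeroDivisors ht).1 (hz'.trans (mul_one t).symm)
    rw [Ideal.eq_top_iff_one, ← h5]
    exact hz
  refine isQuotRank_of_forall_away (fun i => a (ε i)) hspan _ fun i => ?_
  let g := a (ε i)
  let B := Localization.Away g
  let φ : A →+* B := algebraMap A B
  have hbc : bcAway g (satM t σ) = satM (φ t) (σ.map φ) := bc_satM t σ (Submonoid.powers g) B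
  rw [hbc]
  have hu : IsUnit (φ g) := IsLocalization.Away.algebraMap_isUnit g
  have hdet : ((σ.map φ).submatrix (ε i).1 (ε i).2).det = φ t * φ g := by
    have h3 : (σ.map φ).submatrix (ε i).1 (ε i).2 = (σ.submatrix (ε i).1 (ε i).2).map φ := rfl
    rw [h3, ← RingHom.mapMatrix_apply, ← RingHom.map_det, ha, map_mul]
  have hflat : Module.Flat A B := IsLocalization.flat B (Submonoid.powers g)
  have htφ : φ t ∈ nonZeroDivisors B := by
    rw [mem_nonZeroDivisors_iff_right]
    intro b hb
    have h3 := Module.Flat.isSMulRegular_of_nonZeroDivisors (M := B) ht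
    apply h3
    change t • b = t • (0 : B)
    rw [smul_zero, Algebra.smul_def, mul_comm]
    exact hb
  have hspan2 : Ideal.span {φ t * φ g} = Ideal.span {φ t} := Ideal.span_singleton_mul_right_unit hu (φ t)
  obtain ⟨G, hG1, -, hG⟩ := exists_graph (σ.map φ) (ε i).1 (ε i).2
    (by rw [hdet]; exact mul_mem htφ hu.mem_nonZeroDivisors)
    (by
      rw [hdet, hspan2, minorIdeal_map, h1, Ideal.map_span, Set.image_singleton])
    (by rw [minorIdeal_map, h0, Ideal.map_bot])
  have hgr : IsGraphOf (ε i).1 G (satM (φ t) (σ.map φ)) := by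
    refine ⟨hG1, ?_⟩
    ext v
    rw [← hG, hdet, mem_satM]
    constructor
    · intro h
      rw [mul_comm, mul_smul]
      exact Submodule.smul_mem _ _ h
    · intro h
      obtain ⟨u, hu⟩ := hu
      have h6 : φ t • v = (↑u⁻¹ : B) • ((φ t * φ g) • v) := by
        rw [smul_smul, ← hu]
        congr 1
        rw [mul_comm (φ t), ← mul_assoc, Units.inv_mul, one_mul]
      rw [h6]
      exact Submodule.smul_mem _ _ h
  exact hgr.isQuotRank hd

omit [DecidableEq ι] [Fintype ι] in
theorem rangeM_le_satM (σ : Matrix ι κ A) (t : A) : rangeM σ ≤ satM t σ := by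
  intro v hv
  rw [mem_satM]
  exact Submodule.smul_mem _ _ hv

omit [DecidableEq ι] in
theorem eq_satM (σ : Matrix ι κ A) (t : A) (ht : t ∈ nonZeroDivisors A)
    (h1 : minorIdeal r σ = Ideal.span {t}) (h0 : minorIdeal (r + 1) σ = ⊥) {d : ℕ}
    (hd : d + r = Fintype.card ι) {L : Submodule A (ι → A)} (hL : IsQuotRank d L) (hσ : rangeM σ ≤ L) :
    L = satM t σ := by
  symm
  refine eq_of_le_of_isQuotRank ?_ (isQuotRank_satM σ t ht h1 h0 hd) hL
  intro v hv
  rw [mem_satM] at hv
  have hproj := hL.proj
  have h3 := Module.Flat.isSMulRegular_of_nonZeroDivisors (M := (ι → A) ⧸ L) ht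
  have h4 : L.mkQ v = 0 := by
    apply h3
    change t • L.mkQ v = t • (0 : (ι → A) ⧸ L)
    rw [smul_zero, ← map_smul]
    exact (Submodule.Quotient.mk_eq_zero L).2 (hσ hv)
  exact (Submodule.Quotient.mk_eq_zero L).1 h4

end Univ

end K821.MinorRank
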