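import Groth.Agent.Sga67.BlowPerf2
import Groth.Agent.Divis.BlowChart
import Groth.Agent.Divis.EffCartier
import Groth.Agent.Sga67.BlowCover

/-!
Base change of the affine blow-up algebra of a Koszul-regular sequence.
-/

set_option autoImplicit false
universe u

open MvPolynomial TensorProduct BlowUp Groth.Agent.Sga67.BlowPerf

namespace K821.BlowTensor

variable {A A' : Type u} [CommRing A] [CommRing A'] [Algebra A A'] {n : ℕ} (a : A) (b : Fin n → A) {I : Ideal A}

/-- the target quotient ring -/
abbrev Q (a : A) (b : Fin n → A) : Type u := MvPolynomial (Fin n) A ⧸ Ideal.ofList (eqs a b)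

theorem mk_eq (a : A) (b : Fin n → A) (i : Fin n) :
    Ideal.Quotient.mk (Ideal.ofList (eqs a b)) (C a * X i) = Ideal.Quotient.mk (Ideal.ofList (eqs a b)) (C (b i)) := by
  rw [Ideal.Quotient.eq, eqs, ofList_ofFn]
  exact Ideal.subset_span ⟨i, rfl⟩

theorem mem_nonZeroDivisors (hI : I = Ideal.span {a} ⊔ Ideal.span (Set.range b))
    (hC : IsSMulRegular (MvPolynomial (Fin n) A ⧸ Ideal.ofList (eqs a b)) (C a : MvPolynomial (Fin n) A))
    (hC' : IsSMulRegular (MvPolynomial (Fin n) A' ⧸ Ideal.ofList (eqs (algebraMap A A' a)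
      fun i => algebraMap A A' (b i))) (C (algebraMap A A' a) : MvPolynomial (Fin n) A')) :
    algebraMap A (affineAlgebra A I a ⊗[A] A') a ∈ nonZeroDivisors (affineAlgebra A I a ⊗[A] A') := by
  let a' : A' := algebraMap A A' a
  let b' : Fin n → A' := fun i => algebraMap A A' (b i)
  let mk' : MvPolynomial (Fin n) A' →+* Q a' b' := Ideal.Quotient.mk _
  let φ : MvPolynomial (Fin n) A →ₐ[A] Q a' b' := aeval fun i => mk' (X i)
  have halg : ∀ x : A, algebraMap A (Q a' b') x = mk' (C (algebraMap A A' x)) := fun x => rfl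
  have hφ : RingHom.ker (pres a b hI) ≤ RingHom.ker φ := by
    rw [ker_pres a b hI hC, eqs, ofList_ofFn, Ideal.span_le]
    rintro _ ⟨i, rfl⟩
    rw [SetLike.mem_coe, RingHom.mem_ker, map_sub, map_mul, algHom_C, algHom_C, aeval_X, halg, halg, ← map_mul]
    exact sub_eq_zero.mpr (mk_eq a' b' i)
  let κ : affineAlgebra A I a →ₐ[A] Q a' b' :=
    (Ideal.Quotient.liftₐ (RingHom.ker (pres a b hI)) φ (fun x hx => hφ hx)).comp
      (Ideal.quotientKerAlgEquivOfSurjective (pres_surjective a b hI)).symm.toAlgHom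
  have hκ : ∀ p, κ (pres a b hI p) = φ p := by
    intro p
    have h1 : (Ideal.quotientKerAlgEquivOfSurjective (pres_surjective a b hI)).symm (pres a b hI p) =
        Ideal.Quotient.mk _ p := by
      rw [AlgEquiv.symm_apply_eq]
      rfl
    change (Ideal.Quotient.liftₐ (RingHom.ker (pres a b hI)) φ (fun x hx => hφ hx))
      ((Ideal.quotientKerAlgEquivOfSurjective (pres_surjective a b hI)).symm (pres a b hI p)) = _
    rw [h1]
    rfl
  let ρ : A' →ₐ[A] Q a' b' := IsScalarTower.toAlgHom A A' (Q a' b')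
  let Θ : affineAlgebra A I a ⊗[A] A' →ₐ[A] Q a' b' := Algebra.TensorProduct.lift κ ρ (fun _ _ => Commute.all _ _)
  let P : MvPolynomial (Fin n) A' →+* affineAlgebra A I a ⊗[A] A' :=
    eval₂Hom (Algebra.TensorProduct.includeRight : A' →ₐ[A] affineAlgebra A I a ⊗[A] A').toRingHom
      (fun i => pres a b hI (X i) ⊗ₜ[A] (1 : A'))
  have hPmap : ∀ p : MvPolynomial (Fin n) A, P (MvPolynomial.map (algebraMap A A') p) = pres a b hI p ⊗ₜ[A] (1 : A') := by
    intro p
    have h1 : P.comp (MvPolynomial.map (algebraMap A A')) =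
        ((Algebra.TensorProduct.includeLeft : affineAlgebra A I a →ₐ[A] affineAlgebra A I a ⊗[A] A').comp
          (pres a b hI)).toRingHom := by
      apply MvPolynomial.ringHom_ext
      · intro x
        simp only [RingHom.comp_apply, map_C, P, coe_eval₂Hom, eval₂_C]
        change (1 : affineAlgebra A I a) ⊗ₜ[A] (algebraMap A A' x) = pres a b hI (C x) ⊗ₜ[A] (1 : A')
        rw [algHom_C, ← Algebra.TensorProduct.algebraMap_apply, Algebra.TensorProduct.algebraMap_apply']
      · intro i
        simp only [RingHom.comp_apply, map_X, P, coe_eval₂Hom, eval₂_X]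
        rfl
    exact congr($h1 p)
  have hPsurj : Function.Surjective P := by
    intro x
    induction x using TensorProduct.induction_on with
    | zero => exact ⟨0, map_zero _⟩
    | tmul c y =>
      obtain ⟨p, rfl⟩ := pres_surjective a b hI c
      refine ⟨C y * MvPolynomial.map (algebraMap A A') p, ?_⟩
      rw [map_mul, hPmap]
      simp only [P, coe_eval₂Hom, eval₂_C]
      change ((1 : affineAlgebra A I a) ⊗ₜ[A] y) * _ = _
      rw [Algebra.TensorProduct.tmul_mul_tmul, one_mul, mul_one]
    | add x y hx hy =>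
      obtain ⟨p, rfl⟩ := hx
      obtain ⟨q, rfl⟩ := hy
      exact ⟨p + q, map_add _ _ _⟩
  have hΘP : ∀ p, Θ (P p) = mk' p := by
    intro p
    have h1 : (Θ : affineAlgebra A I a ⊗[A] A' →+* Q a' b').comp P = mk' := by
      apply MvPolynomial.ringHom_ext
      · intro x
        simp only [RingHom.comp_apply, P, coe_eval₂Hom, eval₂_C]
        change Θ ((1 : affineAlgebra A I a) ⊗ₜ[A] x) = _
        rw [Algebra.TensorProduct.lift_tmul, map_one, one_mul]
        rfl
      · intro i
        simp only [RingHom.comp_apply, P, coe_eval₂Hom, eval₂_X]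
        change Θ (pres a b hI (X i) ⊗ₜ[A] (1 : A')) = _
        rw [Algebra.TensorProduct.lift_tmul, map_one, mul_one, hκ, aeval_X]
    exact congr($h1 p)
  have hker : ∀ p, P p = 0 ↔ mk' p = 0 := by
    intro p
    constructor
    · intro h
      rw [← hΘP, h, map_zero]
    · intro h
      have h1 : p ∈ Ideal.ofList (eqs a' b') := Ideal.Quotient.eq_zero_iff_mem.mp h
      have h2 : Ideal.ofList (eqs a' b') ≤ RingHom.ker P := by
        rw [eqs, ofList_ofFn, Ideal.span_le]
        rintro _ ⟨i, rfl⟩
        rw [SetLike.mem_coe, RingHom.mem_ker]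
        have e : (C a' * X i - C (b' i) : MvPolynomial (Fin n) A') =
            MvPolynomial.map (algebraMap A A') (C a * X i - C (b i)) := by
          simp [a', b']
        have h3 : pres a b hI (C a * X i - C (b i)) = 0 := by
          have h4 := ofList_eqs_le_ker a b hI (x := C a * X i - C (b i)) (by
            rw [eqs, ofList_ofFn]
            exact Ideal.subset_span ⟨i, rfl⟩)
          exact h4
        change P (C a' * X i - C (b' i)) = 0
        rw [e, hPmap, h3, zero_tmul]
      exact h2 h1
  rw [mem_nonZeroDivisors_iff_right]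
  intro d hd
  obtain ⟨p, rfl⟩ := hPsurj d
  have h1 : P (C a' * p) = 0 := by
    rw [map_mul]
    have e : P (C a') = algebraMap A (affineAlgebra A I a ⊗[A] A') a := by
      simp only [P, coe_eval₂Hom, eval₂_C]
      change (1 : affineAlgebra A I a) ⊗ₜ[A] (algebraMap A A' a) = _
      rw [Algebra.TensorProduct.algebraMap_apply']
    rw [e, mul_comm]
    exact hd
  rw [hker] at h1 ⊢
  apply hC'
  change (C a' : MvPolynomial (Fin n) A') • mk' p = (C a' : MvPolynomial (Fin n) A') • (0 : Q a' b')
  rw [smul_zero]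
  exact h1

/-- version for lists -/
theorem mem_nonZeroDivisors_of_list (l : List A) (hl : LCI.IsKoszulRegularSeq A l)
    (hl' : LCI.IsKoszulRegularSeq A' (l.map (algebraMap A A'))) (a : A) (ha : a ∈ l) :
    algebraMap A (affineAlgebra A (Ideal.ofList l) a ⊗[A] A') a ∈
      nonZeroDivisors (affineAlgebra A (Ideal.ofList l) a ⊗[A] A') := by
  obtain ⟨l', hp⟩ : ∃ l', l.Perm (a :: l') := by
    classical
    exact ⟨l.erase a, List.perm_cons_erase ha⟩
  have h1 := hl
  rw [Groth.Agent.Flat2H.KoszulBC.isKoszulRegularSeq_perm_iff hp] at h1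
  have h1' := hl'
  rw [Groth.Agent.Flat2H.KoszulBC.isKoszulRegularSeq_perm_iff (hp.map (algebraMap A A'))] at h1'
  have h2 : l' = List.ofFn l'.get := (List.ofFn_get l').symm
  rw [h2] at h1
  have h3 : (a :: l').map (algebraMap A A') = algebraMap A A' a :: List.ofFn (fun i => algebraMap A A' (l'.get i)) := by
    rw [List.map_cons]
    congr 1
    conv_lhs => rw [h2]
    rw [List.map_ofFn]
    rfl
  rw [h3] at h1'
  refine mem_nonZeroDivisors a l'.get ?_ (isKoszulRegularSeq_eqs _ _ h1).2 (isKoszulRegularSeq_eqs _ _ h1').2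
  rw [← ofList_ofFn, ← h2, ← Ideal.ofList_cons]
  unfold Ideal.ofList
  congr 1
  ext x
  exact hp.mem_iff

theorem map_affineAlgebra (I : Ideal A) (a : A) (ha : a ∈ I) :
    I.map (algebraMap A (affineAlgebra A I a)) = Ideal.span {algebraMap A (affineAlgebra A I a) a} := by
  apply le_antisymm
  · rw [Ideal.map_le_iff_le_comap]
    intro x hx
    rw [Ideal.mem_comap, Ideal.mem_span_singleton]
    exact ⟨frac I a x hx, (algebraMap_mul_frac I a x hx).symm⟩
  · rw [Ideal.span_singleton_le_iff_mem]
    exact Ideal.mem_map_of_mem _ ha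

open CategoryTheory AlgebraicGeometry Limits Groth.Agent.Divis.BlowChart Groth.Agent.Divis.EffCartier

theorem isEff_spec_map {A D : Type u} [CommRing A] [CommRing D] (I : Ideal A) (φ : A →+* D) (d : D)
    (hI : I.map φ = Ideal.span {d}) (hd : d ∈ nonZeroDivisors D) :
    IsEffCartierIdeal ((idl I).comap (Spec.map (CommRingCat.ofHom φ))) := by
  intro y
  refine ⟨⟨⊤, isAffineOpen_top _⟩, trivial,
    resT _ ⊤ (glob (𝟙 (Spec (CommRingCat.of D))) d), ?_, ?_⟩
  · refine map_mem_nonZeroDivisors_of_flat ((resT _ ⊤).comp (glob (𝟙 (Spec (CommRingCat.of D))))) ?_ hd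
    have h1 : ((resT (Spec (CommRingCat.of D)) ⊤).comp (glob (𝟙 (Spec (CommRingCat.of D))))) =
        ((Scheme.ΓSpecIso (CommRingCat.of D)).inv ≫ (𝟙 (Spec (CommRingCat.of D)) : Spec (CommRingCat.of D) ⟶ _).appTop ≫
          (Spec (CommRingCat.of D)).presheaf.map (homOfLE (le_top : (⊤ : (Spec (CommRingCat.of D)).Opens) ≤ ⊤)).op).hom := rfl
    rw [h1]
    have e : (homOfLE (le_top : (⊤ : (Spec (CommRingCat.of D)).Opens) ≤ ⊤)).op = 𝟙 _ := rfl
    rw [e, CategoryTheory.Functor.map_id, Category.comp_id]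
    have h2 : IsIso ((𝟙 (Spec (CommRingCat.of D)) : Spec (CommRingCat.of D) ⟶ _).appTop) := by
      rw [Scheme.Hom.id_appTop]
      infer_instance
    exact RingHom.Flat.of_bijective (ConcreteCategory.bijective_of_isIso _)
  · rw [comap_idl_ideal]
    have h1 : glob (Spec.map (CommRingCat.ofHom φ)) = (glob (𝟙 (Spec (CommRingCat.of D)))).comp φ := by
      rw [← glob_map, Category.id_comp]
    rw [h1, ← RingHom.comp_assoc, ← Ideal.map_map, hI, Ideal.map_span, Set.image_singleton]
    rfl

theorem isEff_chart (l : List A) (hl : LCI.IsKoszulRegularSeq A l)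
    (hl' : LCI.IsKoszulRegularSeq A' (l.map (algebraMap A A'))) (a : A) (ha : a ∈ l) :
    IsEffCartierIdeal ((idl (Ideal.ofList l)).comap
      (pullback.fst (chartMap (Ideal.ofList l) a) (Spec.map (CommRingCat.ofHom (algebraMap A A'))) ≫
        chartMap (Ideal.ofList l) a)) := by
  have haI : a ∈ Ideal.ofList l := Ideal.subset_span ha
  let D := affineAlgebra A (Ideal.ofList l) a ⊗[A] A'
  let e : pullback (chartMap (Ideal.ofList l) a) (Spec.map (CommRingCat.ofHom (algebraMap A A'))) ≅
      Spec (CommRingCat.of D) := pullbackSpecIso A (affineAlgebra A (Ideal.ofList l) a) A'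
  refine isEff_of_forall_comap fun x => ⟨Spec (CommRingCat.of D), e.inv, inferInstance, ⟨e.hom x, ?_⟩, ?_⟩
  · rw [← Scheme.Hom.comp_apply, e.hom_inv_id]; rfl
  · rw [← Scheme.IdealSheafData.comap_comp]
    have h1 : e.inv ≫ pullback.fst (chartMap (Ideal.ofList l) a) (Spec.map (CommRingCat.ofHom (algebraMap A A'))) ≫
        chartMap (Ideal.ofList l) a = Spec.map (CommRingCat.ofHom (algebraMap A D)) := by
      have h2 : e.inv ≫ pullback.fst (chartMap (Ideal.ofList l) a) (Spec.map (CommRingCat.ofHom (algebraMap A A'))) =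
        Spec.map (CommRingCat.ofHom Algebra.TensorProduct.includeLeftRingHom) :=
        pullbackSpecIso_inv_fst A (affineAlgebra A (Ideal.ofList l) a) A'
      rw [reassoc_of% h2]
      unfold chartMap
      rw [← Spec.map_comp]
      rfl
    rw [h1]
    refine isEff_spec_map _ _ (algebraMap A D a) ?_ (mem_nonZeroDivisors_of_list l hl hl' a ha)
    have h3 : algebraMap A D = (Algebra.TensorProduct.includeLeftRingHom :
        affineAlgebra A (Ideal.ofList l) a →+* D).comp (algebraMap A (affineAlgebra A (Ideal.ofList l) a)) := rfl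
    rw [h3, ← Ideal.map_map, map_affineAlgebra _ _ haI, Ideal.map_span, Set.image_singleton]
    rfl

end K821.BlowTensor
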