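import Groth.Agent.QuotLF.K821.DegenBlow
import Groth.Agent.QuotLF.K821.BlowTensor
import Groth.Agent.Grass.K652.RepFG

/-!
The blowing-up of a Koszul-regular ideal as a Quot scheme.
-/

set_option autoImplicit false
universe u

open CategoryTheory CategoryTheory.Limits AlgebraicGeometry

namespace K821.CokerBlow

open K652.AffYoneda Groth.Agent.Fga.GrassBasic Groth.Agent.Fga.GrassChart K821.GrData K821.GraphForm K821.MinorRank K821.Minors
  K821.SpecGlue Groth.Agent.Divis.BlowChart Matrix BlowUp Groth.Agent.Sga67.BlowPerf MvPolynomial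

variable {R : Type u} [CommRing R] {n : ℕ}

/-- moving a member of a finite sequence to the front -/
theorem perm_ofFn {α : Type*} {n : ℕ} (f : Fin (n + 1) → α) (i : Fin (n + 1)) :
    (List.ofFn f).Perm (f i :: List.ofFn (fun j => f (i.succAbove j))) := by
  rw [← Multiset.coe_eq_coe, ← Multiset.cons_coe]
  have h1 : ∀ {k : ℕ} (g : Fin k → α), (List.ofFn g : Multiset α) = Finset.univ.val.map g := by
    intro k g
    rw [List.ofFn_eq_map]
    rfl
  rw [h1, h1, Fin.univ_succAbove n i, Finset.cons_val, Multiset.map_cons, Finset.map_val, Multiset.map_map]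
  rfl

section Chart

variable (f : Fin (n + 1) → R) (i₀ : Fin (n + 1))

/-- the ideal -/
abbrev idI (f : Fin (n + 1) → R) : Ideal R := Ideal.span (Set.range f)

theorem idI_eq : idI f = Ideal.span {f i₀} ⊔ Ideal.span (Set.range fun j => f (i₀.succAbove j)) := by
  apply le_antisymm
  · rw [Ideal.span_le]
    rintro _ ⟨i, rfl⟩
    refine Fin.succAboveCases i₀ ?_ (fun j => ?_) i
    · exact Ideal.mem_sup_left (Ideal.mem_span_singleton_self _)
    · exact Ideal.mem_sup_right (Ideal.subset_span ⟨j, rfl⟩)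
  · refine sup_le ?_ ?_
    · rw [Ideal.span_singleton_le_iff_mem]
      exact Ideal.subset_span ⟨i₀, rfl⟩
    · rw [Ideal.span_le]
      rintro _ ⟨j, rfl⟩
      exact Ideal.subset_span ⟨_, rfl⟩

/-- the chart algebra -/
abbrev CC : Type u := affineAlgebra R (idI f) (f i₀)

/-- the fractions -/
noncomputable def fr (i : Fin (n + 1)) : CC f i₀ := frac (idI f) (f i₀) (f i) (Ideal.subset_span ⟨i, rfl⟩)

theorem alg_mul_fr (i : Fin (n + 1)) : algebraMap R (CC f i₀) (f i₀) * fr f i₀ i = algebraMap R _ (f i) :=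
  algebraMap_mul_frac _ _ _ _

theorem fr_self : fr f i₀ i₀ = 1 := by
  have h1 := Groth.Agent.Divis.BlowAlg.algebraMap_mem_nonZeroDivisors (idI f) (f i₀)
  apply (mul_cancel_left_mem_nonZeroDivisors h1).1
  rw [mul_one]
  exact alg_mul_fr f i₀ i₀

variable {f}

theorem exists_hom (hf : LCI.IsKoszulRegularSeq R (List.ofFn f)) {B : Type u} [CommRing B] (ψ : R →+* B)
    (u : Fin (n + 1) → B) (hu : u i₀ = 1) (h : ∀ i, ψ (f i) = u i * ψ (f i₀)) :
    ∃ θ : CC f i₀ →+* B, θ.comp (algebraMap R (CC f i₀)) = ψ ∧ ∀ i, θ (fr f i₀ i) = u i := by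
  have h1 := hf
  rw [Groth.Agent.Flat2H.KoszulBC.isKoszulRegularSeq_perm_iff (perm_ofFn f i₀)] at h1
  have h2 := (isKoszulRegularSeq_eqs _ _ h1).2
  let π := pres (f i₀) (fun j => f (i₀.succAbove j)) (idI_eq f i₀)
  have hπ : Function.Surjective π := pres_surjective _ _ _
  let g : MvPolynomial (Fin n) R →+* B := eval₂Hom ψ (fun j => u (i₀.succAbove j))
  have hker : RingHom.ker π.toRingHom ≤ RingHom.ker g := by
    have h3 : RingHom.ker π.toRingHom = Ideal.ofList (eqs (f i₀) (fun j => f (i₀.succAbove j))) :=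
      ker_pres _ _ _ h2
    rw [h3, eqs, ofList_ofFn, Ideal.span_le]
    rintro _ ⟨j, rfl⟩
    rw [SetLike.mem_coe, RingHom.mem_ker]
    simp only [g, map_sub, map_mul, coe_eval₂Hom, eval₂_C, eval₂_X]
    rw [h (i₀.succAbove j)]
    ring
  let θ : CC f i₀ →+* B := RingHom.liftOfSurjective π.toRingHom hπ ⟨g, hker⟩
  have hθ : ∀ p, θ (π p) = g p := fun p => RingHom.liftOfSurjective_comp_apply π.toRingHom hπ ⟨g, hker⟩ p
  have hθ1 : θ.comp (algebraMap R (CC f i₀)) = ψ := by
    ext x
    have h4 := hθ (C x)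
    rw [algHom_C] at h4
    rw [RingHom.comp_apply, h4]
    simp [g]
  refine ⟨θ, hθ1, fun i => ?_⟩
  refine Fin.succAboveCases i₀ ?_ (fun j => ?_) i
  · rw [fr_self, map_one, hu]
  · have h4 := hθ (X j)
    rw [pres_X] at h4
    have h5 : g (X j) = u (i₀.succAbove j) := by simp [g]
    rw [← h5, ← h4]
    rfl

theorem hom_ext_fr {B : Type*} [CommRing B] {θ₁ θ₂ : CC f i₀ →+* B}
    (h1 : θ₁.comp (algebraMap R (CC f i₀)) = θ₂.comp (algebraMap R (CC f i₀)))
    (h2 : ∀ i, θ₁ (fr f i₀ i) = θ₂ (fr f i₀ i)) : θ₁ = θ₂ := by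
  let π := pres (f i₀) (fun j => f (i₀.succAbove j)) (idI_eq f i₀)
  have hπ : Function.Surjective π := pres_surjective _ _ _
  have h3 : θ₁.comp π.toRingHom = θ₂.comp π.toRingHom := by
    apply MvPolynomial.ringHom_ext
    · intro x
      have h4 : π.toRingHom (C x) = algebraMap R (CC f i₀) x := algHom_C _ _
      rw [RingHom.comp_apply, RingHom.comp_apply, h4]
      exact congr($h1 x)
    · intro j
      have h4 : π.toRingHom (X j) = fr f i₀ (i₀.succAbove j) := pres_X _ _ _ _
      rw [RingHom.comp_apply, RingHom.comp_apply, h4]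
      exact h2 _
  ext x
  obtain ⟨p, rfl⟩ := hπ x
  exact congr($h3 p)

/-- the universal matrix over the chart -/
noncomputable def GC (f : Fin (n + 1) → R) (i₀ : Fin (n + 1)) : Matrix (Fin (n + 1)) (Fin 1) (CC f i₀) :=
  Matrix.of fun i _ => fr f i₀ i

theorem isGraphOf_GC (f : Fin (n + 1) → R) (i₀ : Fin (n + 1)) :
    IsGraphOf (fun _ : Fin 1 => i₀) (GC f i₀) (rangeM (GC f i₀)) := by
  refine ⟨?_, rfl⟩
  ext k l
  rw [Matrix.submatrix_apply, GC, Matrix.of_apply, fr_self, Matrix.one_apply, Subsingleton.elim k l, if_pos rfl]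

end Chart

/-- The matrix of a graph is determined by the graph. -/
theorem IsGraphOf.unique {B : Type*} [CommRing B] {ι : Type*} {r : ℕ} {ρ : Fin r → ι}
    {G G' : Matrix ι (Fin r) B} {L : Submodule B (ι → B)} (h : IsGraphOf ρ G L) (h' : IsGraphOf ρ G' L) : G = G' := by
  ext i k
  have h1 : (fun i => G i k) ∈ L := by
    rw [h.2]
    refine ⟨Pi.single k 1, ?_⟩
    rw [Matrix.mulVecLin_apply, Matrix.mulVec_single_one]
    rfl
  have h2 := (h'.mem_iff _).1 h1
  have h3 : (fun i => G i k) ∘ ρ = Pi.single k 1 := by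
    ext l
    have h4 := congrFun (congrFun h.1 l) k
    rw [Matrix.submatrix_apply, id] at h4
    rw [Function.comp_apply, h4, Matrix.one_apply, Pi.single_apply]
  rw [h3, Matrix.mulVec_single_one] at h2
  exact congrFun h2 i

/-- A morphism whose composition with a monomorphism is an open immersion is an open immersion. -/
theorem isOpenImmersion_of_mono {X Y Z : Scheme.{u}} (s : X ⟶ Y) (t : Y ⟶ Z) [Mono t] [IsOpenImmersion (s ≫ t)] :
    IsOpenImmersion s := by
  have h : MorphismProperty.HasOfPostcompProperty @IsOpenImmersion (MorphismProperty.monomorphisms Scheme.{u}) := by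
    rw [MorphismProperty.hasOfPostcompProperty_iff_le_diagonal]
    intro X Y f hf
    have : Mono f := hf
    change IsOpenImmersion (pullback.diagonal f)
    infer_instance
  exact h.of_postcomp s t ‹_› ‹_›

section Data

variable {f : Fin (n + 1) → R} {X : Over (Spec (CommRingCat.of R))}
  (D : Data X (Fin (n + 1)) n {w | ∃ x : Fin (n + 1) → R, (Submodule.span R {f}).mkQ x = 0 ∧
    (LinearEquiv.refl R (Fin (n + 1) → R)) x = w})

theorem forall_span_iff {B : Type u} [CommRing B] (ψ : R →+* B) (L : Submodule B (Fin (n + 1) → B)) :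
    (∀ w ∈ {w | ∃ x : Fin (n + 1) → R, (Submodule.span R {f}).mkQ x = 0 ∧
      (LinearEquiv.refl R (Fin (n + 1) → R)) x = w}, (fun i => ψ (w i)) ∈ L) ↔ (fun i => ψ (f i)) ∈ L := by
  constructor
  · intro h
    exact h f ⟨f, (Submodule.Quotient.mk_eq_zero _).2 (Submodule.mem_span_singleton_self f), rfl⟩
  · rintro h _ ⟨x, hx, rfl⟩
    obtain ⟨c, rfl⟩ := Submodule.mem_span_singleton.1 ((Submodule.Quotient.mk_eq_zero _).1 hx)
    have h1 : (fun i => ψ ((LinearEquiv.refl R (Fin (n + 1) → R)) (c • f) i)) = ψ c • fun i => ψ (f i) := by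
      ext i
      change ψ (c * f i) = ψ c * ψ (f i)
      rw [map_mul]
    rw [h1]
    exact Submodule.smul_mem _ _ h

include D in
theorem exists_chart_pt (i₀ : Fin (n + 1)) : ∃ t : Spec (CommRingCat.of (CC f i₀)) ⟶ X.left,
    t ≫ X.hom = Spec.map (CommRingCat.ofHom (algebraMap R (CC f i₀))) ∧
      IsGraphOf (fun _ : Fin 1 => i₀) (GC f i₀) (D.L t) := by
  obtain ⟨t, ht, htL⟩ := D.exists_pt (CommRingCat.ofHom (algebraMap R (CC f i₀))) (rangeM (GC f i₀))
    ((isGraphOf_GC f i₀).isQuotRank (by rw [Fintype.card_fin])) (by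
      refine (forall_span_iff (algebraMap R (CC f i₀)) _).2 ?_
      refine ⟨fun _ => algebraMap R _ (f i₀), ?_⟩
      rw [Matrix.mulVecLin_apply]
      funext i
      simp only [Matrix.mulVec, dotProduct, GC, Matrix.of_apply, Finset.univ_unique, Finset.sum_singleton]
      rw [mul_comm]
      exact alg_mul_fr f i₀ i)
  refine ⟨t, ht, ?_⟩
  rw [htL]
  exact isGraphOf_GC f i₀

theorem mono_chart_pt (i₀ : Fin (n + 1)) (t : Spec (CommRingCat.of (CC f i₀)) ⟶ X.left)
    (ht : t ≫ X.hom = Spec.map (CommRingCat.ofHom (algebraMap R (CC f i₀))))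
    (hL : IsGraphOf (fun _ : Fin 1 => i₀) (GC f i₀) (D.L t)) : Mono t := by
  have key : ∀ {B : CommRingCat.{u}} (φ₁ φ₂ : CommRingCat.of (CC f i₀) ⟶ B),
      Spec.map φ₁ ≫ t = Spec.map φ₂ ≫ t → φ₁ = φ₂ := by
    intro B φ₁ φ₂ h
    ext1
    apply hom_ext_fr i₀
    · have h1 : Spec.map (CommRingCat.ofHom (algebraMap R (CC f i₀)) ≫ φ₁) =
          Spec.map (CommRingCat.ofHom (algebraMap R (CC f i₀)) ≫ φ₂) := by
        rw [Spec.map_comp, Spec.map_comp, ← ht, ← Category.assoc, ← Category.assoc, h]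
      exact congrArg CommRingCat.Hom.hom (Spec.map_injective h1)
    · intro i
      have h1 := hL.bc φ₁.hom
      have h2 := hL.bc φ₂.hom
      have h3 : bc φ₁.hom (D.L t) = bc φ₂.hom (D.L t) := by
        rw [← D.nat, ← D.nat, h]
      rw [← h3] at h2
      have h4 := congrFun (congrFun (IsGraphOf.unique h1 h2) i) 0
      exact h4
  constructor
  intro Z α β h
  apply Scheme.Cover.hom_ext Z.affineOpenCover.openCover
  intro k
  change Z.affineOpenCover.f k ≫ α = Z.affineOpenCover.f k ≫ β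
  rw [← Spec.map_preimage (Z.affineOpenCover.f k ≫ α), ← Spec.map_preimage (Z.affineOpenCover.f k ≫ β)]
  congr 1
  apply key
  rw [Spec.map_preimage, Spec.map_preimage, Category.assoc, Category.assoc, h]

open Groth.Agent.Fga.RingFunBasic

include D in
/-- The ideal is effective Cartier on the Quot scheme. -/
theorem exists_spec (hf : LCI.IsKoszulRegularSeq R (List.ofFn f)) (y : X.left) :
    ∃ (B : CommRingCat.{u}) (g : Spec B ⟶ X.left) (_ : IsOpenImmersion g), y ∈ Set.range g ∧
      ∃ t ∈ nonZeroDivisors B, (idI f).map (Spec.preimage (g ≫ X.hom)).hom = Ideal.span {t} := by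
  obtain ⟨p₀, hp₀⟩ := X.left.affineOpenCover.covers y
  let B₀ : CommRingCat.{u} := X.left.affineOpenCover.X (X.left.affineOpenCover.idx y)
  let g₀ : Spec B₀ ⟶ X.left := X.left.affineOpenCover.f (X.left.affineOpenCover.idx y)
  change g₀ p₀ = y at hp₀
  obtain ⟨s, hs, ρ, G, hG⟩ := exists_graph_of_prime (r := 1) (D.rank g₀)
    (by rw [Fintype.card_fin]) p₀.asIdeal
  obtain ⟨p₁, hp₁⟩ := K821.DegenBlow.exists_shrink g₀ p₀ s hs
  let B₁ := away B₀ s
  let g₁ : Spec B₁ ⟶ X.left := Spec.map (toAway B₀ s) ≫ g₀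
  have hG₁ : IsGraphOf ρ G (D.L g₁) := by
    rw [D.nat]
    exact hG
  let i₀ : Fin (n + 1) := ρ 0
  have hρ : ρ = fun _ => i₀ := by
    ext k
    rw [Subsingleton.elim k 0]
  rw [hρ] at hG₁
  let ψ : CommRingCat.of R ⟶ B₁ := Spec.preimage (g₁ ≫ X.hom)
  have hψ : Spec.map ψ = g₁ ≫ X.hom := Spec.map_preimage _
  have hmem : (fun i => ψ.hom (f i)) ∈ D.L g₁ := by
    have h1 := (forall_span_iff (f := f) (str X g₁).hom (D.L g₁)).1 (D.mem g₁)
    have h2 : str X g₁ = ψ := by
      apply Spec.map_injective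
      rw [map_str, hψ]
    rwa [h2] at h1
  have hu : ∀ i, ψ.hom (f i) = G i 0 * ψ.hom (f i₀) := by
    intro i
    have h1 := congrFun ((hG₁.mem_iff _).1 hmem) i
    simp only [Matrix.mulVec, dotProduct, Finset.univ_unique, Finset.sum_singleton, Function.comp_apply] at h1
    exact h1
  have hu0 : G i₀ 0 = 1 := by
    have h1 := congrFun (congrFun hG₁.1 0) 0
    rwa [Matrix.submatrix_apply, id, Matrix.one_apply_eq] at h1
  obtain ⟨θ, hθ1, hθ2⟩ := exists_hom i₀ hf ψ.hom (fun i => G i 0) hu0 hu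
  obtain ⟨t, ht, htL⟩ := exists_chart_pt D i₀
  have hmono := mono_chart_pt D i₀ t ht htL
  have hfac : Spec.map (CommRingCat.ofHom θ) ≫ t = g₁ := by
    apply D.ext
    · rw [Category.assoc, ht, ← Spec.map_comp, ← hψ]
      congr 1
      ext x
      exact congr($hθ1 x)
    · rw [D.nat]
      have h1 := htL.bc (CommRingCat.ofHom θ).hom
      rw [h1.2, hG₁.2]
      congr 1
      ext i k
      rw [Subsingleton.elim k 0]
      exact hθ2 i
  have hopen : IsOpenImmersion (Spec.map (CommRingCat.ofHom θ)) := by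
    have h1 : IsOpenImmersion (Spec.map (CommRingCat.ofHom θ) ≫ t) := by
      rw [hfac]
      infer_instance
    exact isOpenImmersion_of_mono _ t
  have hflat : θ.Flat := by
    have h4 : Flat (Spec.map (CommRingCat.ofHom θ)) := inferInstance
    exact (HasRingHomProperty.Spec_iff (P := @Flat)).1 h4
  have hnzd : ψ.hom (f i₀) ∈ nonZeroDivisors B₁ := by
    have h1 := Groth.Agent.Divis.EffCartier.map_mem_nonZeroDivisors_of_flat θ hflat
      (Groth.Agent.Divis.BlowAlg.algebraMap_mem_nonZeroDivisors (idI f) (f i₀))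
    have h2 : θ (algebraMap R (CC f i₀) (f i₀)) = ψ.hom (f i₀) := congr($hθ1 (f i₀))
    rw [h2] at h1
    exact h1
  refine ⟨B₁, g₁, inferInstance, ⟨p₁, by rw [hp₁, hp₀]⟩, _, hnzd, ?_⟩
  change (idI f).map ψ.hom = _
  rw [Ideal.map_span]
  apply le_antisymm
  · rw [Ideal.span_le]
    rintro _ ⟨_, ⟨i, rfl⟩, rfl⟩
    rw [SetLike.mem_coe, Ideal.mem_span_singleton, hu i]
    exact Dvd.intro_left _ rfl
  · rw [Ideal.span_singleton_le_iff_mem]
    exact Ideal.subset_span ⟨_, ⟨i₀, rfl⟩, rfl⟩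

include D in
/-- The Quot scheme is the blowing-up. -/
theorem isBlowUp (hf : LCI.IsKoszulRegularSeq R (List.ofFn f)) : IsBlowUp X.hom (idl (idI f)) := by
  constructor
  · exact isEff_of_spec _ _ (exists_spec D hf)
  · intro Y g hE
    refine existsUnique_of_spec X.hom g
      (fun {B} g' => ∃ t ∈ nonZeroDivisors B, (idI f).map (Spec.preimage (g' ≫ g)).hom = Ideal.span {t})
      (exists_spec_of_isEff _ g hE) (fun g' _ j _ h => mono_of_isOpenImmersion _ g g' j h) ?_
    intro B g' hg' hQ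
    obtain ⟨t, ht, hQt⟩ := hQ
    let ψ : CommRingCat.of R ⟶ B := Spec.preimage (g' ≫ g)
    have hψ : Spec.map ψ = g' ≫ g := Spec.map_preimage _
    let S : Matrix (Fin (n + 1)) (Fin 1) B := Matrix.of fun i _ => ψ.hom (f i)
    have hS : ∀ L : Submodule B (Fin (n + 1) → B), rangeM S ≤ L ↔ (fun i => ψ.hom (f i)) ∈ L := by
      intro L
      rw [K821.DegenBlow.rangeM_le_iff]
      constructor
      · intro h
        exact h 0
      · intro h _
        exact h
    obtain ⟨L₀, h1, h2, h3⟩ := K821.DegenBlow.existsUnique_sub (d := n) (r := 1) S (Or.inr ⟨t, ht, by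
      rw [← hQt]
      apply le_antisymm
      · rw [minorIdeal_le_iff]
        intro e c
        rw [Matrix.det_fin_one]
        exact Ideal.mem_map_of_mem _ (Ideal.subset_span ⟨_, rfl⟩)
      · rw [Ideal.map_span, Ideal.span_le]
        rintro _ ⟨_, ⟨i, rfl⟩, rfl⟩
        have h4 := minor_mem 1 S (fun _ => i) (fun _ => 0)
        rw [Matrix.det_fin_one] at h4
        exact h4, minorIdeal_eq_bot_of_card_lt_right _ _ (by simp), by rw [Fintype.card_fin]⟩)
    have h4 := K821.DegenBlow.existsUnique_pt D ψ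
      ⟨L₀, h1, (forall_span_iff ψ.hom L₀).2 ((hS L₀).1 h2),
        fun L hL hL' => h3 L hL ((hS L).2 ((forall_span_iff ψ.hom L).1 hL'))⟩
    rw [hψ] at h4
    exact h4

end Data

end K821.CokerBlow
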