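import Groth.Agent.Ega4dB.BlowUpChart
import Groth.Agent.Divis.EffCartier

/-!
Gluing morphisms from affine pieces; effective Cartier ideals and affine pieces.
-/

set_option autoImplicit false
universe u

open CategoryTheory AlgebraicGeometry Limits BlowUp

namespace K821.SpecGlue

open Groth.Agent.Divis.IdealComap Groth.Agent.Divis.BlowChart Groth.Agent.Divis Groth.Agent.Ega4dB.BlowUpChart

/-- Gluing: if locally on `Y` there are unique lifts, then there is a unique lift. -/
theorem existsUnique_of_spec {X S Y : Scheme.{u}} (b : X ⟶ S) (g : Y ⟶ S)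
    (Q : ∀ {B : CommRingCat.{u}}, (Spec B ⟶ Y) → Prop)
    (h1 : ∀ y : Y, ∃ (B : CommRingCat.{u}) (f : Spec B ⟶ Y) (_ : IsOpenImmersion f), y ∈ Set.range f ∧ Q f)
    (h2 : ∀ {B C : CommRingCat.{u}} (f : Spec B ⟶ Y) (_ : IsOpenImmersion f) (j : Spec C ⟶ Spec B)
      (_ : IsOpenImmersion j), Q f → Q (j ≫ f))
    (h3 : ∀ {B : CommRingCat.{u}} (f : Spec B ⟶ Y) (_ : IsOpenImmersion f), Q f → ∃! k : Spec B ⟶ X, k ≫ b = f ≫ g) :
    ∃! k : Y ⟶ X, k ≫ b = g := by
  choose B f hf hy hQ using h1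
  let 𝒰 : Y.OpenCover :=
    { I₀ := Y
      X := fun y => Spec (B y)
      f := f
      mem₀ := by
        rw [Scheme.presieve₀_mem_precoverage_iff]
        exact ⟨fun x => ⟨x, hy x⟩, fun x => hf x⟩ }
  choose k hk huniq using fun y => h3 (f y) (hf y) (hQ y)
  have hcompat : ∀ y z : Y, pullback.fst (f y) (f z) ≫ k y = pullback.snd (f y) (f z) ≫ k z := by
    intro y z
    have := hf y
    have := hf z
    apply Scheme.Cover.hom_ext (pullback (f y) (f z)).affineOpenCover.openCover
    intro w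
    let j := (pullback (f y) (f z)).affineOpenCover.f w
    have hj1 : IsOpenImmersion (j ≫ pullback.fst (f y) (f z)) := inferInstance
    have h4 := h3 ((j ≫ pullback.fst (f y) (f z)) ≫ f y) inferInstance (h2 (f y) (hf y) _ hj1 (hQ y))
    refine h4.unique ?_ ?_
    · change (j ≫ pullback.fst (f y) (f z) ≫ k y) ≫ b = _
      rw [Category.assoc, Category.assoc, hk]
      simp only [Category.assoc]
    · change (j ≫ pullback.snd (f y) (f z) ≫ k z) ≫ b = _
      rw [Category.assoc, Category.assoc, hk]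
      simp only [Category.assoc]
      rw [pullback.condition_assoc]
  let K : Y ⟶ X := 𝒰.glueMorphisms k hcompat
  have hK : ∀ y, f y ≫ K = k y := fun y => 𝒰.ι_glueMorphisms k hcompat y
  refine ⟨K, ?_, ?_⟩
  · apply Scheme.Cover.hom_ext 𝒰
    intro y
    change f y ≫ K ≫ b = f y ≫ g
    rw [← Category.assoc, hK, hk]
  · intro K' hK'
    apply Scheme.Cover.hom_ext 𝒰
    intro y
    change f y ≫ K' = f y ≫ K
    rw [hK]
    apply huniq
    rw [Category.assoc, hK']

section

variable {R : Type u} [CommRing R]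

theorem idl_injective {A : Type u} [CommRing A] {I J : Ideal A} (h : idl I = idl J) : I = J := by
  have h1 : (idl I).ideal ⟨⊤, isAffineOpen_top _⟩ = (idl J).ideal ⟨⊤, isAffineOpen_top _⟩ := by rw [h]
  rw [← Scheme.IdealSheafData.comap_id (I := idl I), ← Scheme.IdealSheafData.comap_id (I := idl J), comap_idl_ideal,
    comap_idl_ideal, resT_top, glob_id, RingHom.id_comp] at h1
  exact map_injective_of_isIso (Scheme.ΓSpecIso (CommRingCat.of A)).inv h1

theorem comap_spec (I : Ideal R) {B : CommRingCat.{u}} (h : Spec B ⟶ Spec (CommRingCat.of R)) :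
    (idl I).comap h = idl (A := B) (I.map (Spec.preimage h).hom) := by
  have h1 : h = Spec.map (CommRingCat.ofHom (Spec.preimage h).hom) := (Spec.map_preimage h).symm
  conv_lhs => rw [h1]
  exact comap_SpecMap _ I

/-- Affine pieces of a scheme on which an ideal is effective Cartier. -/
theorem exists_spec_of_isEff (I : Ideal R) {Y : Scheme.{u}} (g : Y ⟶ Spec (CommRingCat.of R))
    (h : IsEffCartierIdeal ((idl I).comap g)) (y : Y) :
    ∃ (B : CommRingCat.{u}) (f : Spec B ⟶ Y) (_ : IsOpenImmersion f), y ∈ Set.range f ∧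
      ∃ t ∈ nonZeroDivisors B, I.map (Spec.preimage (f ≫ g)).hom = Ideal.span {t} := by
  obtain ⟨U, hyU, t, ht, hU⟩ := h y
  refine ⟨Γ(Y, U.1), U.2.fromSpec, inferInstance, ?_, t, ht, ?_⟩
  · rw [U.2.range_fromSpec]
    exact hyU
  · apply idl_injective (A := Γ(Y, U.1))
    have h1 := comap_fromSpec ((idl I).comap g) U.2
    rw [← Scheme.IdealSheafData.comap_comp, comap_spec] at h1
    rw [h1, ← hU]

/-- Stability under open immersions. -/
theorem mono_of_isOpenImmersion (I : Ideal R) {Y : Scheme.{u}} (g : Y ⟶ Spec (CommRingCat.of R))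
    {B C : CommRingCat.{u}} (f : Spec B ⟶ Y) (j : Spec C ⟶ Spec B) [IsOpenImmersion j]
    (h : ∃ t ∈ nonZeroDivisors B, I.map (Spec.preimage (f ≫ g)).hom = Ideal.span {t}) :
    ∃ t ∈ nonZeroDivisors C, I.map (Spec.preimage ((j ≫ f) ≫ g)).hom = Ideal.span {t} := by
  obtain ⟨t, ht, h1⟩ := h
  have h2 : Spec.preimage ((j ≫ f) ≫ g) = Spec.preimage (f ≫ g) ≫ Spec.preimage j := by
    apply Spec.map_injective
    simp
  refine ⟨(Spec.preimage j).hom t, ?_, ?_⟩
  · apply EffCartier.map_mem_nonZeroDivisors_of_flat _ _ ht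
    have h3 : IsOpenImmersion (Spec.map (Spec.preimage j)) := by
      rw [Spec.map_preimage]
      infer_instance
    have h4 : Flat (Spec.map (Spec.preimage j)) := inferInstance
    exact (HasRingHomProperty.Spec_iff (P := @Flat)).1 h4
  · rw [h2, CommRingCat.hom_comp, ← Ideal.map_map, h1, Ideal.map_span, Set.image_singleton]

/-- A converse: effective Cartier ideals from affine pieces. -/
theorem isEff_of_spec (I : Ideal R) {Y : Scheme.{u}} (g : Y ⟶ Spec (CommRingCat.of R))
    (h : ∀ y : Y, ∃ (B : CommRingCat.{u}) (f : Spec B ⟶ Y) (_ : IsOpenImmersion f), y ∈ Set.range f ∧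
      ∃ t ∈ nonZeroDivisors B, I.map (Spec.preimage (f ≫ g)).hom = Ideal.span {t}) :
    IsEffCartierIdeal ((idl I).comap g) := by
  refine EffCartier.isEff_of_forall_comap fun y => ?_
  obtain ⟨B, f, hf, hy, t, ht, h1⟩ := h y
  refine ⟨Spec B, f, hf, hy, ?_⟩
  rw [← Scheme.IdealSheafData.comap_comp, comap_spec, h1]
  intro x
  refine ⟨⟨⊤, isAffineOpen_top _⟩, trivial, (Scheme.ΓSpecIso (CommRingCat.of B)).inv.hom t, ?_, ?_⟩
  · exact EffCartier.map_mem_nonZeroDivisors_of_flat _ (RingHom.Flat.of_bijective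
      (ConcreteCategory.bijective_of_isIso (Scheme.ΓSpecIso (CommRingCat.of B)).inv)) ht
  · rw [← Scheme.IdealSheafData.comap_id (I := idl (A := B) (Ideal.span {t})), comap_idl_ideal, resT_top, glob_id,
      RingHom.id_comp, Ideal.map_span, Set.image_singleton]

/-- Locally principal ideals from affine pieces. -/
theorem isLocPrincipal_of_spec (I : Ideal R) {Y : Scheme.{u}} (g : Y ⟶ Spec (CommRingCat.of R))
    (h : ∀ y : Y, ∃ (B : CommRingCat.{u}) (f : Spec B ⟶ Y) (_ : IsOpenImmersion f), y ∈ Set.range f ∧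
      ∃ t : B, I.map (Spec.preimage (f ≫ g)).hom = Ideal.span {t}) :
    ∀ y : Y, ∃ U : Y.affineOpens, y ∈ U.1 ∧ ∃ a : Γ(Y, U.1), ((idl I).comap g).ideal U = Ideal.span {a} := by
  intro y
  obtain ⟨B, f, hf, ⟨x, rfl⟩, t, h1⟩ := h y
  let U : Y.affineOpens := ⟨f ''ᵁ ⊤, (isAffineOpen_top _).image_of_isOpenImmersion f⟩
  refine ⟨U, ⟨x, trivial, rfl⟩, (f.appIso ⊤).inv.hom ((Scheme.ΓSpecIso (CommRingCat.of B)).inv.hom t), ?_⟩
  have h2 : (((idl I).comap g).comap f).ideal ⟨⊤, isAffineOpen_top _⟩ =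
      Ideal.span {(Scheme.ΓSpecIso (CommRingCat.of B)).inv.hom t} := by
    rw [← Scheme.IdealSheafData.comap_comp, comap_spec, h1]
    rw [← Scheme.IdealSheafData.comap_id (I := idl (A := B) (Ideal.span {t})), comap_idl_ideal, resT_top, glob_id,
      RingHom.id_comp, Ideal.map_span, Set.image_singleton]
    rfl
  have h3 := ideal_comap_of_isOpenImmersion ((idl I).comap g) f U ⟨⊤, isAffineOpen_top _⟩
    (f.preimage_image_eq ⊤).ge
  rw [h2, ← Scheme.Hom.appIso_hom'] at h3
  have h4 := congr(Ideal.map (f.appIso ⊤).inv.hom $h3)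
  rw [Ideal.map_map, ← CommRingCat.hom_comp, Iso.hom_inv_id, Ideal.map_span, Set.image_singleton] at h4
  rw [h4]
  simp

end

end K821.SpecGlue
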