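import Groth.Agent.QuotLF.K821.GrData
import Groth.Agent.QuotLF.K821.MinorRank
import Groth.Agent.QuotLF.K821.SpecGlue
import Groth.Agent.QuotLF.K821.FittMinors

/-!
The product of the two Quot schemes of a module of homological dimension at most one.
-/

set_option autoImplicit false
universe u

open CategoryTheory CategoryTheory.Limits AlgebraicGeometry

namespace K821.DegenBlow

open K652.AffYoneda Groth.Agent.Fga.GrassBasic Groth.Agent.Fga.GrassChart K821.GrData K821.GraphForm K821.MinorRank K821.Minors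
  K821.SpecGlue Groth.Agent.Divis.BlowChart Matrix

variable {R : Type u} [CommRing R] {n m : ℕ}

section Uniq

variable {B : Type u} [CommRing B] {ι κ : Type} [Fintype κ] [Fintype ι]

omit [Fintype ι] in
/-- The columns of a matrix and its range. -/
theorem rangeM_le_iff (σ : Matrix ι κ B) (L : Submodule B (ι → B)) :
    rangeM σ ≤ L ↔ ∀ j, (fun i => σ i j) ∈ L := by
  classical
  constructor
  · intro h j
    apply h
    refine ⟨Pi.single j 1, ?_⟩
    rw [Matrix.mulVecLin_apply, Matrix.mulVec_single_one]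
    rfl
  · rintro h _ ⟨w, rfl⟩
    have h1 : σ.mulVecLin w = ∑ j, w j • fun i => σ i j := by
      rw [Matrix.mulVecLin_apply]
      ext i
      rw [Finset.sum_apply]
      simp only [Matrix.mulVec, dotProduct, Pi.smul_apply, smul_eq_mul]
      exact Finset.sum_congr rfl fun k _ => mul_comm _ _
    rw [h1]
    exact Submodule.sum_mem _ fun j _ => Submodule.smul_mem _ _ (h j)

/-- Existence and uniqueness of the quotient of expected rank. -/
theorem existsUnique_sub (σ : Matrix ι κ B) {r d : ℕ} (h : Subsingleton B ∨ ∃ t ∈ nonZeroDivisors B,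
    minorIdeal r σ = Ideal.span {t} ∧ minorIdeal (r + 1) σ = ⊥ ∧ d + r = Fintype.card ι) :
    ∃ L₀ : Submodule B (ι → B), IsQuotRank d L₀ ∧ rangeM σ ≤ L₀ ∧
      ∀ L : Submodule B (ι → B), IsQuotRank d L → rangeM σ ≤ L → L = L₀ := by
  classical
  obtain h | ⟨t, ht, h1, h0, hd⟩ := h
  · refine ⟨⊤, isQuotRank_of_subsingleton _, le_top, fun L _ _ => ?_⟩
    exact Subsingleton.elim _ _
  · exact ⟨satM t σ, isQuotRank_satM σ t ht h1 h0 hd, rangeM_le_satM σ t,
      fun L hL hσ => eq_satM σ t ht h1 h0 hd hL hσ⟩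

theorem le_card_of_isQuotRank {K : Type u} [Field K] {d : ℕ} {L : Submodule K (ι → K)} (hL : IsQuotRank d L) :
    d ≤ Fintype.card ι := by
  have h1 := hL.rank (IsLocalRing.closedPoint K)
  rw [Module.rankAtStalk_eq_finrank_of_free] at h1
  simp only [Pi.natCast_apply, Nat.cast_id] at h1
  rw [← h1]
  refine (Submodule.finrank_quotient_le L).trans ?_
  rw [Module.finrank_fintype_fun_eq_card]

end Uniq

section Points

variable {X : Over (Spec (CommRingCat.of R))} {k : ℕ} {W : Set (Fin n → R)} (D : Data X (Fin n) k W)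

include D in
/-- A morphism to a scheme with point data from an affine scheme, in terms of submodules. -/
theorem existsUnique_pt {B : CommRingCat.{u}} (ψ : CommRingCat.of R ⟶ B)
    (h : ∃ L₀ : Submodule B (Fin n → B), IsQuotRank k L₀ ∧ (∀ w ∈ W, (fun i => ψ.hom (w i)) ∈ L₀) ∧
      ∀ L : Submodule B (Fin n → B), IsQuotRank k L → (∀ w ∈ W, (fun i => ψ.hom (w i)) ∈ L) → L = L₀) :
    ∃! t : Spec B ⟶ X.left, t ≫ X.hom = Spec.map ψ := by
  obtain ⟨L₀, h1, h2, h3⟩ := h
  obtain ⟨t, ht, htL⟩ := D.exists_pt ψ L₀ h1 h2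
  have key : ∀ t' : Spec B ⟶ X.left, t' ≫ X.hom = Spec.map ψ → D.L t' = L₀ := by
    intro t' ht'
    refine h3 _ (D.rank t') fun w hw => ?_
    have h4 := D.mem t' w hw
    have h5 : str X t' = ψ := by
      apply Spec.map_injective
      rw [map_str, ht']
    rwa [h5] at h4
  refine ⟨t, ht, fun t' ht' => ?_⟩
  exact D.ext t' t (ht'.trans ht.symm) ((key t' ht').trans htL.symm)

end Points

section Matrices

variable (σ : (Fin m → R) →ₗ[R] (Fin n → R)) {B : Type u} [CommRing B] (ψ : R →+* B)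

/-- membership of the images of the elements of the range of `σ` -/
theorem forall_range_iff (L : Submodule B (Fin n → B)) :
    (∀ w ∈ {w | ∃ x : Fin n → R, (LinearMap.range σ).mkQ x = 0 ∧ (LinearEquiv.refl R (Fin n → R)) x = w},
      (fun i => ψ (w i)) ∈ L) ↔ rangeM ((LinearMap.toMatrix' σ).map ψ) ≤ L := by
  rw [rangeM_le_iff]
  constructor
  · intro h j
    refine h _ ⟨σ (Pi.single j 1), ?_, ?_⟩
    · exact (Submodule.Quotient.mk_eq_zero _).2 ⟨_, rfl⟩
    · ext i
      rw [LinearEquiv.refl_apply, LinearMap.toMatrix'_apply]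
  · rintro h _ ⟨x, hx, rfl⟩
    obtain ⟨y, rfl⟩ := (Submodule.Quotient.mk_eq_zero _).1 hx
    rw [← rangeM_le_iff] at h
    apply h
    refine ⟨fun j => ψ (y j), ?_⟩
    rw [Matrix.mulVecLin_apply]
    ext i
    have h1 := RingHom.map_mulVec ψ (LinearMap.toMatrix' σ) y i
    rw [LinearMap.toMatrix'_mulVec] at h1
    exact h1.symm

/-- coordinates of linear forms -/
noncomputable def dualEquiv (R : Type u) [CommRing R] (m : ℕ) : Module.Dual R (Fin m → R) ≃ₗ[R] (Fin m → R) :=
  ((Pi.basisFun R (Fin m)).constr R).symm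

theorem dualEquiv_apply (f : Module.Dual R (Fin m → R)) (j : Fin m) : dualEquiv R m f j = f (Pi.single j 1) := by
  change f ((Pi.basisFun R (Fin m)) j) = _
  rw [Pi.basisFun_apply]

theorem forall_dual_iff (L : Submodule B (Fin m → B)) :
    (∀ w ∈ {w | ∃ x : Module.Dual R (Fin m → R), (LinearMap.range σ.dualMap).mkQ x = 0 ∧ dualEquiv R m x = w},
      (fun i => ψ (w i)) ∈ L) ↔ rangeM ((LinearMap.toMatrix' σ).map ψ).transpose ≤ L := by
  rw [rangeM_le_iff]
  constructor
  · intro h i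
    refine h _ ⟨σ.dualMap (LinearMap.proj i), ?_, ?_⟩
    · exact (Submodule.Quotient.mk_eq_zero _).2 ⟨_, rfl⟩
    · ext j
      rw [dualEquiv_apply, LinearMap.dualMap_apply, LinearMap.proj_apply, LinearMap.toMatrix'_apply]
  · rintro h _ ⟨x, hx, rfl⟩
    obtain ⟨f, rfl⟩ := (Submodule.Quotient.mk_eq_zero _).1 hx
    rw [← rangeM_le_iff] at h
    apply h
    refine ⟨fun i => ψ (f (Pi.single i 1)), ?_⟩
    rw [Matrix.mulVecLin_apply]
    ext j
    have h1 : σ.dualMap f (Pi.single j 1) = ∑ i, (LinearMap.toMatrix' σ) i j * f (Pi.single i 1) := by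
      rw [LinearMap.dualMap_apply]
      conv_lhs => rw [← Finset.univ_sum_single (σ (Pi.single j 1)), map_sum]
      refine Finset.sum_congr rfl fun i _ => ?_
      rw [LinearMap.toMatrix'_apply]
      have h2 : (Pi.single i (σ (Pi.single j 1) i) : Fin n → R) = σ (Pi.single j 1) i • Pi.single i 1 := by
        rw [← Pi.single_smul, smul_eq_mul, mul_one]
      rw [h2, map_smul, smul_eq_mul]
      
    rw [dualEquiv_apply, h1, map_sum]
    simp only [Matrix.mulVec, dotProduct, Matrix.transpose_apply, Matrix.map_apply, map_mul]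

end Matrices

open Groth.Agent.Fga.RingFunBasic in
/-- Shrinking an affine piece around a point. -/
theorem exists_shrink {Y : Scheme.{u}} {B : CommRingCat.{u}} (f : Spec B ⟶ Y) [IsOpenImmersion f] (p : Spec B)
    (s : B) (hs : s ∉ p.asIdeal) : ∃ q : Spec (away B s), (Spec.map (toAway B s) ≫ f) q = f p := by
  have h1 : p ∈ Set.range (Spec.map (toAway B s)) := by
    rw [range_SpecMap_toAway]
    exact hs
  obtain ⟨q, hq⟩ := h1
  refine ⟨q, ?_⟩
  rw [Scheme.Hom.comp_apply, hq]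

section Main

variable {m δ d : ℕ} (hd : δ ≤ d) (σ : (Fin m → R) →ₗ[R] (Fin (m + δ) → R))
    {Bp Bm : Over (Spec (CommRingCat.of R))}
    (Dp : Data Bp (Fin (m + δ)) d {w | ∃ x : Fin (m + δ) → R, (LinearMap.range σ).mkQ x = 0 ∧
      (LinearEquiv.refl R (Fin (m + δ) → R)) x = w})
    (Dm : Data Bm (Fin m) (d - δ) {w | ∃ x : Module.Dual R (Fin m → R), (LinearMap.range σ.dualMap).mkQ x = 0 ∧
      dualEquiv R m x = w})

open Groth.Agent.Fga.RingFunBasic

include hd Dp Dm in
/-- The ideal of the rank `d` degeneracy locus is locally principal on the product. -/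
theorem exists_principal (y : (pullback Bp.hom Bm.hom : Scheme.{u})) :
    ∃ (B : CommRingCat.{u}) (f : Spec B ⟶ pullback Bp.hom Bm.hom) (_ : IsOpenImmersion f), y ∈ Set.range f ∧
      ∃ t : B, (Fitt.ideal R ((Fin (m + δ) → R) ⧸ LinearMap.range σ) d).map
        (Spec.preimage (f ≫ (pullback.fst Bp.hom Bm.hom ≫ Bp.hom))).hom = Ideal.span {t} := by
  let Y : Scheme.{u} := pullback Bp.hom Bm.hom
  obtain ⟨p₀, hp₀⟩ := Y.affineOpenCover.covers y
  let B₀ : CommRingCat.{u} := Y.affineOpenCover.X (Y.affineOpenCover.idx y)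
  let f₀ : Spec B₀ ⟶ Y := Y.affineOpenCover.f (Y.affineOpenCover.idx y)
  change f₀ p₀ = y at hp₀
  -- the rank bound
  have hdle : d ≤ m + δ := by
    have h1 := (Dp.rank (f₀ ≫ pullback.fst Bp.hom Bm.hom)).bc (algebraMap B₀ p₀.asIdeal.ResidueField)
    have h2 := le_card_of_isQuotRank h1
    rwa [Fintype.card_fin] at h2
  obtain ⟨r, hr⟩ : ∃ r, d + r = m + δ := ⟨m + δ - d, by omega⟩
  have hr' : (d - δ) + r = m := by omega
  -- first localization
  obtain ⟨s₁, hs₁, ρ, G, hG⟩ := exists_graph_of_prime (r := r) (Dp.rank (f₀ ≫ pullback.fst Bp.hom Bm.hom))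
    (by rw [Fintype.card_fin]; exact hr) p₀.asIdeal
  obtain ⟨p₁, hp₁⟩ := exists_shrink f₀ p₀ s₁ hs₁
  let B₁ := away B₀ s₁
  let f₁ : Spec B₁ ⟶ Y := Spec.map (toAway B₀ s₁) ≫ f₀
  have hG₁ : IsGraphOf ρ G (Dp.L (f₁ ≫ pullback.fst Bp.hom Bm.hom)) := by
    rw [Category.assoc, Dp.nat]
    exact hG
  -- second localization
  obtain ⟨s₂, hs₂, c, H, hH⟩ := exists_graph_of_prime (r := r) (Dm.rank (f₁ ≫ pullback.snd Bp.hom Bm.hom))
    (by rw [Fintype.card_fin]; exact hr') p₁.asIdeal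
  obtain ⟨p₂, hp₂⟩ := exists_shrink f₁ p₁ s₂ hs₂
  let B₂ := away B₁ s₂
  let f₂ : Spec B₂ ⟶ Y := Spec.map (toAway B₁ s₂) ≫ f₁
  have hH₂ : IsGraphOf c H (Dm.L (f₂ ≫ pullback.snd Bp.hom Bm.hom)) := by
    rw [Category.assoc, Dm.nat]
    exact hH
  have hG₂ : IsGraphOf ρ (G.map (toAway B₁ s₂).hom) (Dp.L (f₂ ≫ pullback.fst Bp.hom Bm.hom)) := by
    rw [Category.assoc, Dp.nat]
    exact hG₁.bc _
  let ψ : CommRingCat.of R ⟶ B₂ := Spec.preimage (f₂ ≫ (pullback.fst Bp.hom Bm.hom ≫ Bp.hom))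
  have hψp : str Bp (f₂ ≫ pullback.fst Bp.hom Bm.hom) = ψ := by
    apply Spec.map_injective
    rw [map_str, Spec.map_preimage, Category.assoc]
  have hψm : str Bm (f₂ ≫ pullback.snd Bp.hom Bm.hom) = ψ := by
    apply Spec.map_injective
    rw [map_str, Spec.map_preimage, Category.assoc, pullback.condition]
  have h1 : rangeM ((LinearMap.toMatrix' σ).map ψ.hom) ≤ Dp.L (f₂ ≫ pullback.fst Bp.hom Bm.hom) := by
    rw [← forall_range_iff σ ψ.hom, ← hψp]
    exact Dp.mem _
  have h2 : rangeM ((LinearMap.toMatrix' σ).map ψ.hom).transpose ≤ Dm.L (f₂ ≫ pullback.snd Bp.hom Bm.hom) := by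
    rw [← forall_dual_iff σ ψ.hom, ← hψm]
    exact Dm.mem _
  rw [rangeM_le_iff] at h1 h2
  have h3 := minorIdeal_eq_span ((LinearMap.toMatrix' σ).map ψ.hom) hG₂ hH₂ h1 h2
  have h5 : (Fitt.ideal R ((Fin (m + δ) → R) ⧸ LinearMap.range σ) d).map ψ.hom =
      Ideal.span {(((LinearMap.toMatrix' σ).map ψ.hom).submatrix ρ c).det} := by
    rw [K821.FittMinors.fitt_coker, ← minorIdeal_map]
    have h4 : m + δ - d = r := by omega
    rw [h4]
    exact h3
  exact ⟨B₂, f₂, inferInstance, ⟨p₂, by rw [hp₂, hp₁, hp₀]⟩, _, h5⟩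

include hd Dp Dm in
/-- The universal property of the product. -/
theorem existsUnique_lift {Y' : Scheme.{u}} (g : Y' ⟶ Spec (CommRingCat.of R))
    (hg : ∃ g' : Y' ⟶ Spec (CommRingCat.of (R ⧸ ⨆ j < d, Fitt.ideal R ((Fin (m + δ) → R) ⧸ LinearMap.range σ) j)),
      g' ≫ Spec.map (CommRingCat.ofHom (Ideal.Quotient.mk
        (⨆ j < d, Fitt.ideal R ((Fin (m + δ) → R) ⧸ LinearMap.range σ) j))) = g)
    (hE : BlowUp.IsEffCartierIdeal ((idl (Fitt.ideal R ((Fin (m + δ) → R) ⧸ LinearMap.range σ) d)).comap g)) :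
    ∃! h : Y' ⟶ pullback Bp.hom Bm.hom, h ≫ (pullback.fst Bp.hom Bm.hom ≫ Bp.hom) = g := by
  refine existsUnique_of_spec (pullback.fst Bp.hom Bm.hom ≫ Bp.hom) g
    (fun {B} f => ∃ t ∈ nonZeroDivisors B, (Fitt.ideal R ((Fin (m + δ) → R) ⧸ LinearMap.range σ) d).map
      (Spec.preimage (f ≫ g)).hom = Ideal.span {t})
    (exists_spec_of_isEff _ g hE) (fun f _ j _ h => mono_of_isOpenImmersion _ g f j h) ?_
  intro B f hf hQ
  obtain ⟨t, ht, hQt⟩ := hQ
  let ψ : CommRingCat.of R ⟶ B := Spec.preimage (f ≫ g)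
  have hψ : Spec.map ψ = f ≫ g := Spec.map_preimage _
  let S := (LinearMap.toMatrix' σ).map ψ.hom
  -- the ideals of smaller index vanish
  have hJ : ∀ j < d, minorIdeal (m + δ - j) S = ⊥ := by
    intro j hj
    rw [minorIdeal_map, ← K821.FittMinors.fitt_coker, ← Ideal.zero_eq_bot, Ideal.zero_eq_bot, eq_bot_iff,
      Ideal.map_le_iff_le_comap]
    obtain ⟨g', hg'⟩ := hg
    have h1 : ψ = CommRingCat.ofHom (Ideal.Quotient.mk
        (⨆ j < d, Fitt.ideal R ((Fin (m + δ) → R) ⧸ LinearMap.range σ) j)) ≫ Spec.preimage (f ≫ g') := by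
      apply Spec.map_injective
      rw [hψ, Spec.map_comp, Spec.map_preimage, Category.assoc, hg']
    intro x hx
    have h2 : x ∈ ⨆ j < d, Fitt.ideal R ((Fin (m + δ) → R) ⧸ LinearMap.range σ) j :=
      (le_iSup₂_of_le (f := fun j (_ : j < d) => Fitt.ideal R ((Fin (m + δ) → R) ⧸ LinearMap.range σ) j) j hj le_rfl) hx
    rw [Ideal.mem_comap, Ideal.mem_bot, h1]
    change (Spec.preimage (f ≫ g')).hom (Ideal.Quotient.mk _ x) = 0
    rw [Ideal.Quotient.eq_zero_iff_mem.mpr h2, map_zero]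
  -- the numerical facts
  have key : Subsingleton B ∨ ∃ r, minorIdeal r S = Ideal.span {t} ∧ minorIdeal (r + 1) S = ⊥ ∧
      d + r = m + δ ∧ (d - δ) + r = m := by
    by_cases hdn : d ≤ m + δ
    · right
      refine ⟨m + δ - d, ?_, ?_, by omega, by omega⟩
      · rw [minorIdeal_map, ← K821.FittMinors.fitt_coker]
        exact hQt
      · by_cases hd0 : d = 0
        · apply minorIdeal_eq_bot_of_card_lt_left
          rw [Fintype.card_fin]
          omega
        · have h1 := hJ (d - 1) (by omega)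
          have h2 : m + δ - (d - 1) = m + δ - d + 1 := by omega
          rwa [h2] at h1
    · left
      have h1 := hJ (m + δ) (by omega)
      rw [Nat.sub_self, minorIdeal_zero] at h1
      rw [← not_nontrivial_iff_subsingleton]
      intro hnt
      exact bot_ne_top h1.symm
  have hLp := existsUnique_sub (d := d) S (r := (m + δ) - d) (by
    rcases key with h | ⟨r, h1, h0, h2, h3⟩
    · exact Or.inl h
    · refine Or.inr ⟨t, ht, ?_⟩
      have h4 : m + δ - d = r := by omega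
      rw [h4]
      exact ⟨h1, h0, by rw [Fintype.card_fin]; exact h2⟩)
  have hLm := existsUnique_sub (d := d - δ) S.transpose (r := (m + δ) - d) (by
    rcases key with h | ⟨r, h1, h0, h2, h3⟩
    · exact Or.inl h
    · refine Or.inr ⟨t, ht, ?_⟩
      have h4 : m + δ - d = r := by omega
      rw [h4, minorIdeal_transpose, minorIdeal_transpose]
      exact ⟨h1, h0, by rw [Fintype.card_fin]; exact h3⟩)
  obtain ⟨tp, htp, hup⟩ := existsUnique_pt Dp ψ (by
    obtain ⟨L₀, h1, h2, h3⟩ := hLp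
    refine ⟨L₀, h1, (forall_range_iff σ ψ.hom L₀).2 h2, fun L hL hL' => h3 L hL ((forall_range_iff σ ψ.hom L).1 hL')⟩)
  obtain ⟨tm, htm, hum⟩ := existsUnique_pt Dm ψ (by
    obtain ⟨L₀, h1, h2, h3⟩ := hLm
    refine ⟨L₀, h1, (forall_dual_iff σ ψ.hom L₀).2 h2, fun L hL hL' => h3 L hL ((forall_dual_iff σ ψ.hom L).1 hL')⟩)
  refine ⟨pullback.lift tp tm (htp.trans htm.symm), ?_, ?_⟩
  · change pullback.lift tp tm (htp.trans htm.symm) ≫ (pullback.fst Bp.hom Bm.hom ≫ Bp.hom) = f ≫ g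
    rw [← Category.assoc, pullback.lift_fst, htp, hψ]
  · intro h hh
    change h ≫ (pullback.fst Bp.hom Bm.hom ≫ Bp.hom) = f ≫ g at hh
    apply pullback.hom_ext
    · rw [pullback.lift_fst]
      apply hup
      rw [Category.assoc, hh, hψ]
    · rw [pullback.lift_snd]
      apply hum
      rw [Category.assoc, ← pullback.condition, hh, hψ]

end Main

end K821.DegenBlow
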