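import Mathlib.LinearAlgebra.Determinant
import Mathlib.RingTheory.Flat.LocallyFree
import Mathlib.RingTheory.LocalProperties.Basic
import Mathlib.LinearAlgebra.Basis.Prod
import Mathlib.LinearAlgebra.Finsupp.LinearCombination

/-!
Determinants of matrices many of whose rows are relations among generators of a projective module.
-/

set_option autoImplicit false
universe u v

namespace K821.DetZero

open Module

variable {A : Type u} [CommRing A]

theorem det_eq_zero_of_block {n : Type*} [Fintype n] [DecidableEq n] (C : Matrix n n A) (p q : Finset n)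
    (h : ∀ i ∈ p, ∀ j ∈ q, C i j = 0) (hc : Fintype.card n < p.card + q.card) : C.det = 0 := by
  rw [Matrix.det_apply]
  refine Finset.sum_eq_zero fun σ _ => ?_
  have h0 : ∃ j ∈ q, σ j ∈ p := by
    by_contra hcon
    push Not at hcon
    have h1 : q.map σ.toEmbedding ⊆ pᶜ := by
      intro i hi
      obtain ⟨j, hj, rfl⟩ := Finset.mem_map.mp hi
      exact Finset.mem_compl.mpr (hcon j hj)
    have h2 := Finset.card_le_card h1
    rw [Finset.card_map, Finset.card_compl] at h2
    have := Finset.card_le_univ p
    omega
  obtain ⟨j, hj, hjp⟩ := h0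
  have h3 : ∏ i, C (σ i) i = 0 :=
    Finset.prod_eq_zero (f := fun i => C (σ i) i) (Finset.mem_univ j) (h _ hjp _ hj)
  rw [h3, smul_zero]

/-- a splitting of a surjection from a free module -/
noncomputable def splitEquiv {n : ℕ} {P : Type v} [AddCommGroup P] [Module A P]
    (π : (Fin n → A) →ₗ[A] P) (g : P →ₗ[A] (Fin n → A)) (h : π ∘ₗ g = LinearMap.id) :
    (Fin n → A) ≃ₗ[A] (LinearMap.ker π) × P where
  toFun v := (⟨v - g (π v), by
    have := LinearMap.congr_fun h (π v)
    simp only [LinearMap.comp_apply, LinearMap.id_apply] at this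
    simp [this]⟩, π v)
  map_add' v w := by
    refine Prod.ext (Subtype.ext ?_) ?_
    · simp; abel
    · simp
  map_smul' c v := by
    refine Prod.ext (Subtype.ext ?_) ?_
    · simp [smul_sub]
    · simp
  invFun y := y.1.1 + g y.2
  left_inv v := by simp
  right_inv y := by
    have := LinearMap.congr_fun h y.2
    simp only [LinearMap.comp_apply, LinearMap.id_apply] at this
    refine Prod.ext (Subtype.ext ?_) ?_
    · simp [this]
    · simp [this]

theorem splitEquiv_snd {n : ℕ} {P : Type v} [AddCommGroup P] [Module A P]
    (π : (Fin n → A) →ₗ[A] P) (g : P →ₗ[A] (Fin n → A)) (h : π ∘ₗ g = LinearMap.id) (v : Fin n → A) :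
    (splitEquiv π g h v).2 = π v := rfl

theorem det_eq_zero_local [IsLocalRing A] {P : Type v} [AddCommGroup P] [Module A P] [Module.Free A P]
    [Module.Finite A P] {n : ℕ} (x : Fin n → P) (hx : Submodule.span A (Set.range x) = ⊤)
    (a : Matrix (Fin n) (Fin n) A) (t : ℕ) (htn : t ≤ n) (ht : n < t + finrank A P)
    (ha : ∀ i : Fin n, (i : ℕ) < t → ∑ j, a i j • x j = 0) : a.det = 0 := by
  let π : (Fin n → A) →ₗ[A] P := Fintype.linearCombination A x
  have hπr : LinearMap.range π = ⊤ := by rw [Fintype.range_linearCombination, hx]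
  obtain ⟨g, hg⟩ := LinearMap.exists_rightInverse_of_surjective π hπr
  let e := splitEquiv π g hg
  have hfin : Module.Finite A (LinearMap.ker π) :=
    Module.Finite.of_surjective ((LinearMap.fst A (LinearMap.ker π) P) ∘ₗ e.toLinearMap)
      (fun k => ⟨e.symm (k, 0), by simp⟩)
  have hproj : Module.Projective A (LinearMap.ker π) :=
    Module.Projective.of_split (e.symm.toLinearMap ∘ₗ LinearMap.inl A (LinearMap.ker π) P)
      ((LinearMap.fst A (LinearMap.ker π) P) ∘ₗ e.toLinearMap) (by ext; simp)
  have hfree : Module.Free A (LinearMap.ker π) := Module.free_of_flat_of_isLocalRing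
  have hrk : finrank A (LinearMap.ker π) + finrank A P = n := by
    rw [← Module.finrank_prod, ← e.finrank_eq, Module.finrank_fin_fun]
  let bK := Module.finBasis A (LinearMap.ker π)
  let bP := Module.finBasis A P
  let b := (bK.prod bP).map e.symm
  let ε : Fin n ≃ Fin (finrank A (LinearMap.ker π)) ⊕ Fin (finrank A P) :=
    (Pi.basisFun A (Fin n)).indexEquiv b
  let b' := b.reindex ε.symm
  let a' : Fin n → (Fin n → A) := fun i j => a i j
  have h1 : a.det = (Pi.basisFun A (Fin n)).det b' * b'.det a' := by
    have h2 := AlternatingMap.eq_smul_basis_det b' (Pi.basisFun A (Fin n)).det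
    have h3 : a.det = (Pi.basisFun A (Fin n)).det a' := by
      rw [Pi.basisFun_det]; rfl
    rw [h3]
    conv_lhs => rw [h2]
    rfl
  rw [h1, Basis.det_apply b' a']
  have h4 : (b'.toMatrix a').det = 0 := by
    refine det_eq_zero_of_block _ (Finset.univ.filter fun i => (ε i).isRight)
      (Finset.univ.filter fun j : Fin n => (j : ℕ) < t) ?_ ?_
    · intro i hi j hj
      rw [Finset.mem_filter] at hi hj
      obtain ⟨l, hl⟩ := Sum.isRight_iff.mp hi.2
      have h5 : b'.toMatrix a' i j = (bP.repr (π (a' j))) l := by
        rw [Basis.toMatrix_apply]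
        simp only [b', Basis.repr_reindex_apply, Equiv.symm_symm, hl, b, Basis.map_repr,
          LinearEquiv.trans_apply, LinearEquiv.symm_symm, Basis.prod_repr_inr]
        rfl
      rw [h5]
      have h6 : π (a' j) = 0 := by
        rw [← ha j hj.2]
        exact Fintype.linearCombination_apply A x (a' j)
      rw [h6, map_zero, Finsupp.zero_apply]
    · have c1 : (Finset.univ.filter fun j : Fin n => (j : ℕ) < t).card = t := by
        rw [Fin.card_filter_val_lt, min_eq_right htn]
      have c2 : (Finset.univ.filter fun i => (ε i).isRight).card = finrank A P := by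
        have h7 : (Finset.univ.filter fun i => (ε i).isRight) =
            (Finset.univ : Finset (Fin (finrank A P))).map
              (Function.Embedding.trans Function.Embedding.inr ε.symm.toEmbedding) := by
          ext i
          simp only [Finset.mem_filter, Finset.mem_univ, true_and, Finset.mem_map]
          constructor
          · intro hi
            obtain ⟨l, hl⟩ := Sum.isRight_iff.mp hi
            exact ⟨l, by simp [← hl]⟩
          · rintro ⟨l, rfl⟩
            simp
        rw [h7, Finset.card_map, Finset.card_univ, Fintype.card_fin]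
      rw [c1, c2, Fintype.card_fin]
      omega
  rw [h4, mul_zero]

theorem det_eq_zero {P : Type v} [AddCommGroup P] [Module A P] [Module.Projective A P]
    [Module.Finite A P] (k : ℕ) (hk : ∀ p : PrimeSpectrum A, rankAtStalk (R := A) P p = k)
    {n : ℕ} (x : Fin n → P) (hx : Submodule.span A (Set.range x) = ⊤)
    (a : Matrix (Fin n) (Fin n) A) (t : ℕ) (htn : t ≤ n) (ht : n < t + k)
    (ha : ∀ i : Fin n, (i : ℕ) < t → ∑ j, a i j • x j = 0) : a.det = 0 := by
  refine eq_zero_of_localization _ fun J hJ => ?_
  rw [RingHom.map_det]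
  have hfree : Module.Free (Localization.AtPrime J) (LocalizedModule J.primeCompl P) :=
    Module.free_of_flat_of_isLocalRing
  refine det_eq_zero_local (P := LocalizedModule J.primeCompl P)
    (fun j => LocalizedModule.mkLinearMap J.primeCompl P (x j)) ?_ _ t htn ?_ ?_
  · have h := span_eq_top_of_isLocalizedModule
      (Localization.AtPrime J) J.primeCompl (LocalizedModule.mkLinearMap J.primeCompl P) hx
    rw [← h]
    congr 1
    rw [← Set.range_comp]
    rfl
  · have := hk ⟨J, inferInstance⟩
    unfold rankAtStalk at this
    rw [this]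
    exact ht
  · intro i hi
    have h := congrArg (LocalizedModule.mkLinearMap J.primeCompl P) (ha i hi)
    rw [map_sum, map_zero] at h
    rw [← h]
    refine Finset.sum_congr rfl fun j _ => ?_
    rw [map_smul]
    simp only [RingHom.mapMatrix_apply, Matrix.map_apply]
    exact algebraMap_smul _ _ _

end K821.DetZero
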