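import Groth.Agent.Grass.K652.ComapGr
import Groth.Agent.Grass.K652.AffYoneda

/-!
Points of schemes representing the Grassmannian functor of a finitely presented module, as submodules of
free modules.
-/

set_option autoImplicit false
universe u

open CategoryTheory CategoryTheory.Limits AlgebraicGeometry TensorProduct

namespace K821.GrData

open K652.AffYoneda K652.MapSpan K652.ComapGr Groth.Agent.Fga.GrassBasic Grass

variable {R : Type u} [CommRing R]

/-- Points of a scheme representing rank `k` quotients of the quotient of `R^ι` by `W`. -/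
structure Data (X : Over (Spec (CommRingCat.of R))) (ι : Type) (k : ℕ) (W : Set (ι → R)) where
  /-- the submodule attached to a point -/
  L : ∀ {B : CommRingCat.{u}} (_ : Spec B ⟶ X.left), Submodule B (ι → B)
  rank : ∀ {B : CommRingCat.{u}} (t : Spec B ⟶ X.left), IsQuotRank k (L t)
  mem : ∀ {B : CommRingCat.{u}} (t : Spec B ⟶ X.left), ∀ w ∈ W, (fun i => (str X t).hom (w i)) ∈ L t
  nat : ∀ {B C : CommRingCat.{u}} (φ : B ⟶ C) (t : Spec B ⟶ X.left), L (Spec.map φ ≫ t) = bc φ.hom (L t)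
  ext : ∀ {B : CommRingCat.{u}} (t t' : Spec B ⟶ X.left), t ≫ X.hom = t' ≫ X.hom → L t = L t' → t = t'
  exists_pt : ∀ {B : CommRingCat.{u}} (ψ : CommRingCat.of R ⟶ B) (L' : Submodule B (ι → B)), IsQuotRank k L' →
    (∀ w ∈ W, (fun i => ψ.hom (w i)) ∈ L') → ∃ t : Spec B ⟶ X.left, t ≫ X.hom = Spec.map ψ ∧ L t = L'

section

variable {ι : Type} [Fintype ι] [DecidableEq ι] {k : ℕ} {F M : Type u} [AddCommGroup F] [Module R F]
  [AddCommGroup M] [Module R M] (b : F ≃ₗ[R] (ι → R)) (v : F →ₗ[R] M) (hv : Function.Surjective v)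
  {X : Over (Spec (CommRingCat.of R))}
  (e : ∀ A : CommAlgCat.{u} R, (specOver R A ⟶ X) ≃ (Module.Grassmannian.functor (R := R) (M := M) k).obj A)
  (he : IsAlgRep R M k X e)

/-- a point over a ring as a point over an algebra -/
noncomputable def pt {B : CommRingCat.{u}} (ψ : CommRingCat.of R ⟶ B) (t : Spec B ⟶ X.left)
    (h : t ≫ X.hom = Spec.map ψ) : specOver R (algOf ψ) ⟶ X :=
  Over.homMk t h

/-- the submodule attached to a point -/
noncomputable def sub {B : CommRingCat.{u}} (ψ : CommRingCat.of R ⟶ B) (t : Spec B ⟶ X.left)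
    (h : t ≫ X.hom = Spec.map ψ) : Submodule B (ι → B) :=
  (grEquiv b (algOf ψ) (comapPt v hv (algOf ψ) (e (algOf ψ) (pt ψ t h)))).1

theorem sub_congr {B : CommRingCat.{u}} (ψ ψ' : CommRingCat.of R ⟶ B) (t t' : Spec B ⟶ X.left)
    (h : t ≫ X.hom = Spec.map ψ) (h' : t' ≫ X.hom = Spec.map ψ') (e₁ : ψ = ψ') (e₂ : t = t') :
    sub b v hv e ψ t h = sub b v hv e ψ' t' h' := by
  subst e₁ e₂
  rfl

theorem sub_rank {B : CommRingCat.{u}} (ψ : CommRingCat.of R ⟶ B) (t : Spec B ⟶ X.left)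
    (h : t ≫ X.hom = Spec.map ψ) : IsQuotRank k (sub b v hv e ψ t h) :=
  (grEquiv b (algOf ψ) (comapPt v hv (algOf ψ) (e (algOf ψ) (pt ψ t h)))).2

theorem theta_one_tmul (A : Type u) [CommRing A] [Algebra R A] (x : F) :
    theta b A ((1 : A) ⊗ₜ[R] x) = fun i => algebraMap R A (b x i) := by
  ext i
  rw [theta_tmul, Algebra.smul_def, mul_one]

theorem sub_mem {B : CommRingCat.{u}} (ψ : CommRingCat.of R ⟶ B) (t : Spec B ⟶ X.left)
    (h : t ≫ X.hom = Spec.map ψ) (x : F) (hx : v x = 0) :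
    (fun i => ψ.hom (b x i)) ∈ sub b v hv e ψ t h := by
  have h1 := (exists_comapPt_iff v hv (comapPt v hv (algOf ψ) (e (algOf ψ) (pt ψ t h)))).1 ⟨_, rfl⟩ x hx
  refine ⟨_, h1, ?_⟩
  exact theta_one_tmul b (algOf ψ) x

include he in
theorem sub_nat {B C : CommRingCat.{u}} (ψ : CommRingCat.of R ⟶ B) (φ : B ⟶ C) (ψ' : CommRingCat.of R ⟶ C)
    (hφ : ψ ≫ φ = ψ') (t : Spec B ⟶ X.left) (h : t ≫ X.hom = Spec.map ψ)
    (h' : (Spec.map φ ≫ t) ≫ X.hom = Spec.map ψ') :
    sub b v hv e ψ' (Spec.map φ ≫ t) h' = bc φ.hom (sub b v hv e ψ t h) := by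
  have h1 := he (algOf ψ) (algOf ψ') (algMap ψ ψ' φ hφ) (pt ψ t h) (pt ψ' (Spec.map φ ≫ t) h') rfl
  unfold sub
  have h2 : e (algOf ψ') (pt ψ' (Spec.map φ ≫ t) h') =
    Module.Grassmannian.map (algMap ψ ψ' φ hφ).hom (e (algOf ψ) (pt ψ t h)) := h1
  rw [h2, ← map_comapPt, grEquiv_map]
  rfl

theorem sub_ext {B : CommRingCat.{u}} (ψ : CommRingCat.of R ⟶ B) (t t' : Spec B ⟶ X.left)
    (h : t ≫ X.hom = Spec.map ψ) (h' : t' ≫ X.hom = Spec.map ψ)
    (hs : sub b v hv e ψ t h = sub b v hv e ψ t' h') : t = t' := by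
  have h1 : comapPt v hv (algOf ψ) (e (algOf ψ) (pt ψ t h)) = comapPt v hv (algOf ψ) (e (algOf ψ) (pt ψ t' h')) :=
    (grEquiv b (algOf ψ)).injective (Subtype.ext hs)
  have h2 := (e (algOf ψ)).injective (comapPt_injective v hv (algOf ψ) h1)
  exact congrArg CommaMorphism.left h2

theorem sub_exists {B : CommRingCat.{u}} (ψ : CommRingCat.of R ⟶ B) (L' : Submodule B (ι → B))
    (hL : IsQuotRank k L') (hmem : ∀ x : F, v x = 0 → (fun i => ψ.hom (b x i)) ∈ L') :
    ∃ (t : Spec B ⟶ X.left) (h : t ≫ X.hom = Spec.map ψ), sub b v hv e ψ t h = L' := by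
  let N := (grEquiv b (algOf ψ)).symm ⟨L', hL⟩
  have hN : (grEquiv b (algOf ψ) N).1 = L' := congrArg Subtype.val ((grEquiv b (algOf ψ)).apply_symm_apply ⟨L', hL⟩)
  obtain ⟨N', hN'⟩ := (exists_comapPt_iff v hv N).2 (by
    intro w hw
    have h1 := hmem w hw
    have h2 : theta b (algOf ψ) ((1 : algOf ψ) ⊗ₜ[R] w) ∈ (grEquiv b (algOf ψ) N).1 := by
      rw [hN, theta_one_tmul]
      exact h1
    rw [grEquiv_val] at h2
    obtain ⟨y, hy, hy'⟩ := h2
    rwa [(theta b (algOf ψ)).injective hy'] at hy)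
  refine ⟨((e (algOf ψ)).symm N').left, Over.w ((e (algOf ψ)).symm N'), ?_⟩
  unfold sub
  have h3 : pt ψ ((e (algOf ψ)).symm N').left (Over.w ((e (algOf ψ)).symm N')) = (e (algOf ψ)).symm N' := rfl
  rw [h3, Equiv.apply_symm_apply, hN']
  exact hN

include hv he in
/-- The points of a scheme representing a Grassmannian functor. -/
theorem exists_data : Nonempty (Data X ι k {w | ∃ x : F, v x = 0 ∧ b x = w}) :=
  ⟨{ L := fun {B} t => sub b v hv e (str X t) t (map_str X t).symm
     rank := fun {B} t => sub_rank b v hv e _ t _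
     mem := by
       rintro B t _ ⟨x, hx, rfl⟩
       exact sub_mem b v hv e _ t _ x hx
     nat := by
       intro B C φ t
       exact sub_nat b v hv e he (str X t) φ _ (str_comp φ t) t _ _
     ext := by
       intro B t t' h1 h2
       have h3 : str X t = str X t' := by
         apply Spec.map_injective
         rw [map_str, map_str, h1]
       rw [sub_congr b v hv e (str X t') (str X t) t' t' _ (h1.symm.trans (map_str X t).symm) h3.symm rfl] at h2
       exact sub_ext b v hv e (str X t) t t' _ _ h2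
     exists_pt := by
       intro B ψ L' hL hmem
       obtain ⟨t, h, ht⟩ := sub_exists b v hv e ψ L' hL (fun x hx => hmem _ ⟨x, hx, rfl⟩)
       refine ⟨t, h, ?_⟩
       rw [← ht]
       apply sub_congr
       · apply Spec.map_injective
         rw [map_str, h]
       · rfl }⟩

end

end K821.GrData
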