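import Groth.Agent.Fga.GrassChart
import Groth.Agent.QuotLF.K821.Minors

/-!
Submodules of free modules in graph form.
-/

set_option autoImplicit false
universe u v w

namespace K821.GraphForm

open Groth.Agent.Fga.GrassBasic Groth.Agent.Fga.GrassChart Matrix

section Rank

variable {B : Type u} [CommRing B]

/-- A surjection between finite projective modules with the same ranks is injective. -/
theorem injective_of_surjective_of_rank {M N : Type*} [AddCommGroup M] [Module B M] [Module.Finite B M]
    [Module.Projective B M] [AddCommGroup N] [Module B N] [Module.Projective B N]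
    (hMN : ∀ p : PrimeSpectrum B, Module.rankAtStalk (R := B) M p = Module.rankAtStalk (R := B) N p)
    (f : M →ₗ[B] N) (hf : Function.Surjective f) : Function.Injective f := by
  obtain ⟨s, hs⟩ := Module.projective_lifting_property f LinearMap.id hf
  have : Module.Finite B N := Module.Finite.of_surjective f hf
  let K := LinearMap.ker f
  have hcompl : IsCompl K (LinearMap.range s) := by
    constructor
    · rw [Submodule.disjoint_def]
      rintro _ hx ⟨y, rfl⟩
      have h1 : f (s y) = y := congrArg (fun g => g y) hs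
      have h2 : f (s y) = 0 := hx
      rw [← h1, h2, map_zero]
    · rw [codisjoint_iff, eq_top_iff]
      intro x _
      rw [← sub_add_cancel x (s (f x))]
      refine Submodule.add_mem_sup ?_ ⟨_, rfl⟩
      change f (x - s (f x)) = 0
      have h1 : f (s (f x)) = f x := congrArg (fun g => g (f x)) hs
      rw [map_sub, h1, sub_self]
  let eq : (K × LinearMap.range s) ≃ₗ[B] M := Submodule.prodEquivOfIsCompl _ _ hcompl
  have hsinj : Function.Injective s := by
    intro x y hxy
    have h1 : f (s x) = x := congrArg (fun g => g x) hs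
    have h2 : f (s y) = y := congrArg (fun g => g y) hs
    rw [← h1, ← h2, hxy]
  let eN : N ≃ₗ[B] LinearMap.range s := LinearEquiv.ofInjective s hsinj
  have hKproj : Module.Projective B K := by
    have : Module.Projective B (K × LinearMap.range s) := Module.Projective.of_equiv eq.symm
    exact Module.Projective.of_split (LinearMap.inl B K (LinearMap.range s)) (LinearMap.fst B K (LinearMap.range s))
      (by ext; simp)
  have hRproj : Module.Projective B (LinearMap.range s) := Module.Projective.of_equiv eN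
  have hKfin : Module.Finite B K :=
    Module.Finite.of_surjective ((LinearMap.fst B K (LinearMap.range s)).comp eq.symm.toLinearMap)
      (by
        intro x
        exact ⟨eq (x, 0), by simp⟩)
  have hrank : Module.rankAtStalk (R := B) K = 0 := by
    ext p
    have h1 := congrFun (Module.rankAtStalk_prod (R := B) K (LinearMap.range s)) p
    rw [Module.rankAtStalk_eq_of_equiv eq] at h1
    simp only [Pi.add_apply] at h1
    rw [← Module.rankAtStalk_eq_of_equiv eN, hMN p] at h1
    simp only [Pi.zero_apply]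
    omega
  have hsub : Subsingleton K := Module.rankAtStalk_eq_zero_iff_subsingleton.1 hrank
  rw [← LinearMap.ker_eq_bot]
  exact (Submodule.subsingleton_iff_eq_bot).1 hsub

/-- Nested submodules with quotients of the same rank are equal. -/
theorem eq_of_le_of_isQuotRank {V : Type*} [AddCommGroup V] [Module B V] [Module.Finite B V] {d : ℕ}
    {L L' : Submodule B V} (h : L ≤ L') (hL : IsQuotRank d L) (hL' : IsQuotRank d L') : L = L' := by
  apply le_antisymm h
  have := hL.proj
  have := hL'.proj
  have hinj := injective_of_surjective_of_rank (M := V ⧸ L) (N := V ⧸ L')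
    (fun p => by rw [hL.rank, hL'.rank]) (Submodule.factor h) (Submodule.factor_surjective h)
  intro x hx
  have h1 : Submodule.factor h (Submodule.Quotient.mk x) = 0 :=
    (Submodule.Quotient.mk_eq_zero L').2 hx
  have h2 := hinj (h1.trans (map_zero _).symm)
  rwa [Submodule.Quotient.mk_eq_zero] at h2

end Rank

section Graph

variable {B C : Type*} [CommRing B] [CommRing C] {ι : Type*} [Fintype ι] [DecidableEq ι] {r : ℕ}

/-- The range of a matrix. -/
def rangeM {κ : Type*} [Fintype κ] (G : Matrix ι κ B) : Submodule B (ι → B) := LinearMap.range G.mulVecLin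

omit [Fintype ι] [DecidableEq ι] in
theorem mem_rangeM {κ : Type*} [Fintype κ] {G : Matrix ι κ B} {v : ι → B} :
    v ∈ rangeM G ↔ ∃ w : κ → B, G *ᵥ w = v := Iff.rfl

/-- `L` is the graph of a linear map: `L` is the range of a matrix whose `ρ`-rows form the identity matrix. -/
def IsGraphOf (ρ : Fin r → ι) (G : Matrix ι (Fin r) B) (L : Submodule B (ι → B)) : Prop :=
  G.submatrix ρ id = 1 ∧ L = rangeM G

omit [Fintype ι] [DecidableEq ι] in
theorem mulVec_comp {ρ : Fin r → ι} {G : Matrix ι (Fin r) B} (h : G.submatrix ρ id = 1) (w : Fin r → B) :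
    (G *ᵥ w) ∘ ρ = w := by
  have h1 : (G *ᵥ w) ∘ ρ = (G.submatrix ρ id) *ᵥ w := rfl
  rw [h1, h, Matrix.one_mulVec]

omit [Fintype ι] [DecidableEq ι] in
theorem IsGraphOf.mem_iff {ρ : Fin r → ι} {G : Matrix ι (Fin r) B} {L : Submodule B (ι → B)}
    (h : IsGraphOf ρ G L) (v : ι → B) : v ∈ L ↔ v = G *ᵥ (v ∘ ρ) := by
  rw [h.2, mem_rangeM]
  constructor
  · rintro ⟨w, rfl⟩
    rw [mulVec_comp h.1]
  · intro hv
    exact ⟨_, hv.symm⟩

omit [DecidableEq ι] in
/-- The quotient by a graph is projective of the expected rank. -/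
theorem IsGraphOf.isQuotRank {ρ : Fin r → ι} {G : Matrix ι (Fin r) B} {L : Submodule B (ι → B)}
    (h : IsGraphOf ρ G L) {d : ℕ} (hd : d + r = Fintype.card ι) : IsQuotRank d L := by
  let Φ : (ι → B) →ₗ[B] ((ι → B) ⧸ L) × (Fin r → B) := L.mkQ.prod (LinearMap.funLeft B B ρ)
  have hΦ : Function.Bijective Φ := by
    constructor
    · rw [← LinearMap.ker_eq_bot, LinearMap.ker_eq_bot']
      intro v hv
      have h1 : L.mkQ v = 0 := congrArg Prod.fst hv
      have h2 : v ∘ ρ = 0 := congrArg Prod.snd hv
      have h3 : v ∈ L := (Submodule.Quotient.mk_eq_zero L).1 h1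
      rw [h.mem_iff, h2, Matrix.mulVec_zero] at h3
      exact h3
    · rintro ⟨x, w⟩
      obtain ⟨v, rfl⟩ := Submodule.mkQ_surjective L x
      refine ⟨v + G *ᵥ (w - v ∘ ρ), ?_⟩
      refine Prod.ext ?_ ?_
      · change L.mkQ (v + G *ᵥ (w - v ∘ ρ)) = L.mkQ v
        have h1 : L.mkQ (G *ᵥ (w - v ∘ ρ)) = 0 := (Submodule.Quotient.mk_eq_zero L).2 (by
          rw [h.2]
          exact ⟨_, rfl⟩)
        rw [map_add, h1, add_zero]
      · change (v + G *ᵥ (w - v ∘ ρ)) ∘ ρ = w
        have h1 : (v + G *ᵥ (w - v ∘ ρ)) ∘ ρ = v ∘ ρ + (G *ᵥ (w - v ∘ ρ)) ∘ ρ := rfl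
        rw [h1, mulVec_comp h.1, add_sub_cancel]
  let E : (ι → B) ≃ₗ[B] ((ι → B) ⧸ L) × (Fin r → B) := LinearEquiv.ofBijective Φ hΦ
  have hp : Module.Projective B (((ι → B) ⧸ L) × (Fin r → B)) := Module.Projective.of_equiv E
  have hproj : Module.Projective B ((ι → B) ⧸ L) :=
    Module.Projective.of_split (LinearMap.inl B ((ι → B) ⧸ L) (Fin r → B))
      (LinearMap.fst B ((ι → B) ⧸ L) (Fin r → B)) (by ext; simp)
  refine ⟨hproj, fun p => ?_⟩
  have : Nontrivial B := ⟨⟨0, 1, fun h => p.2.ne_top ((Ideal.eq_top_iff_one _).2 (h ▸ p.asIdeal.zero_mem))⟩⟩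
  have h1 := congrFun (Module.rankAtStalk_prod (R := B) ((ι → B) ⧸ L) (Fin r → B)) p
  rw [← Module.rankAtStalk_eq_of_equiv E, Module.rankAtStalk_eq_finrank_of_free] at h1
  have h2 := congrFun (Module.rankAtStalk_eq_finrank_of_free (R := B) (M := Fin r → B)) p
  simp only [Pi.add_apply] at h1
  simp only [Module.finrank_fintype_fun_eq_card, Fintype.card_fin, Pi.natCast_apply, Nat.cast_id] at h1 h2
  omega

omit [Fintype ι] [DecidableEq ι] in
/-- base change of a graph -/
theorem IsGraphOf.bc {ρ : Fin r → ι} {G : Matrix ι (Fin r) B} {L : Submodule B (ι → B)}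
    (h : IsGraphOf ρ G L) (φ : B →+* C) : IsGraphOf ρ (G.map φ) (bc φ L) := by
  constructor
  · have h1 : (G.map φ).submatrix ρ id = (G.submatrix ρ id).map φ := rfl
    rw [h1, h.1]
    simp
  · rw [h.2]
    apply le_antisymm
    · rw [bc_le_iff]
      rintro _ ⟨w, rfl⟩
      refine ⟨fun k => φ (w k), ?_⟩
      ext i
      exact (RingHom.map_mulVec φ G w i).symm
    · rintro _ ⟨w, rfl⟩
      have h1 : G.map φ *ᵥ w = ∑ k, w k • fun i => φ (G i k) := by
        ext i
        rw [Finset.sum_apply]
        simp only [Matrix.mulVec, dotProduct, Matrix.map_apply, Pi.smul_apply, smul_eq_mul]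
        exact Finset.sum_congr rfl fun k _ => mul_comm _ _
      rw [Matrix.mulVecLin_apply, h1]
      refine Submodule.sum_mem _ fun k _ => Submodule.smul_mem _ _ ?_
      refine mem_bc_of_mem φ (v := fun i => G i k) ⟨Pi.single k 1, ?_⟩
      rw [Matrix.mulVecLin_apply, Matrix.mulVec_single_one]
      rfl

/-- kernels of normalised matrices are graphs -/
theorem exists_graph_of_isNorm [Nontrivial B] {d : ℕ} {e : Fin d → ι} {a : Matrix (Fin d) ι B} (ha : IsNorm e a)
    (hd : d + r = Fintype.card ι) : ∃ (ρ : Fin r → ι) (G : Matrix ι (Fin r) B), IsGraphOf ρ G (kerM a) := by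
  have he : Function.Injective e := by
    intro k l hkl
    by_contra hne
    have h1 := congrFun (congrFun ha k) k
    have h2 := congrFun (congrFun ha k) l
    rw [Matrix.submatrix_apply, id, Matrix.one_apply_eq] at h1
    rw [Matrix.submatrix_apply, id, Matrix.one_apply_ne hne, ← hkl, h1] at h2
    exact one_ne_zero h2
  have hcard : Fintype.card {i : ι // i ∉ Set.range e} = r := by
    have h1 := Fintype.card_subtype_compl (fun i : ι => i ∈ Set.range e)
    have h2 : Fintype.card {i : ι // i ∈ Set.range e} = d := by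
      have h3 := Set.card_range_of_injective he
      rw [Fintype.card_fin] at h3
      exact h3
    rw [h1, h2]
    omega
  let ε : Fin r ≃ {i : ι // i ∉ Set.range e} := (Fintype.equivFinOfCardEq hcard).symm
  let ρ : Fin r → ι := fun k => (ε k).1
  have hρ : ∀ k l, e l ≠ ρ k := fun k l h => (ε k).2 ⟨l, h⟩
  have hinj : Function.Injective ρ := fun k l h => ε.injective (Subtype.ext h)
  let G : Matrix ι (Fin r) B := Matrix.of fun i k =>
    (Pi.single (ρ k) 1 - sec e B (a *ᵥ Pi.single (ρ k) 1) : ι → B) i
  have hsec : ∀ (b : Fin d → B) (k : Fin r), sec e B b (ρ k) = 0 := by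
    intro b k
    rw [sec_apply, Finset.sum_apply]
    refine Finset.sum_eq_zero fun l _ => ?_
    rw [Pi.smul_apply, Pi.single_eq_of_ne (hρ k l).symm, smul_zero]
  have hG1 : G.submatrix ρ id = 1 := by
    ext k l
    change (Pi.single (ρ l) 1 - sec e B (a *ᵥ Pi.single (ρ l) 1) : ι → B) (ρ k) = _
    rw [Pi.sub_apply, hsec, sub_zero, Pi.single_apply, Matrix.one_apply]
    simp only [hinj.eq_iff]
  refine ⟨ρ, G, hG1, ?_⟩
  apply le_antisymm
  · intro v hv
    refine ⟨v ∘ ρ, ?_⟩
    have h1 : v = ∑ j, v j • (Pi.single j 1 - sec e B (a *ᵥ Pi.single j 1) : ι → B) := by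
      have h4 : ∑ j, v j • (Pi.single j 1 : ι → B) = v := by
        ext i
        simp [Finset.sum_apply, Pi.single_apply]
      have h5 : ∑ j, v j • sec e B (a *ᵥ (Pi.single j 1)) = 0 := by
        have : ∑ j, v j • sec e B (a *ᵥ (Pi.single j 1)) = sec e B (a *ᵥ ∑ j, v j • (Pi.single j 1 : ι → B)) := by
          rw [← Matrix.mulVecLin_apply, ← LinearMap.comp_apply, map_sum]
          simp
        rw [this, h4, mem_kerM.1 hv, map_zero]
      simp_rw [smul_sub, Finset.sum_sub_distrib]
      rw [h4, h5, sub_zero]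
    have h2 : ∑ j, v j • (Pi.single j 1 - sec e B (a *ᵥ Pi.single j 1) : ι → B) =
        ∑ k, v (ρ k) • (Pi.single (ρ k) 1 - sec e B (a *ᵥ Pi.single (ρ k) 1) : ι → B) := by
      symm
      refine Finset.sum_of_injOn ρ hinj.injOn (by simp) ?_ (fun _ _ => rfl)
      intro j _ hj
      have h3 : j ∈ Set.range e := by
        by_contra hcon
        apply hj
        refine ⟨ε.symm ⟨j, hcon⟩, by simp, ?_⟩
        simp [ρ]
      obtain ⟨l, rfl⟩ := h3
      rw [ha.mulVec_single, sec_single, sub_self, smul_zero]
    conv_rhs => rw [h1, h2]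
    rw [Matrix.mulVecLin_apply]
    ext i
    rw [Finset.sum_apply]
    simp only [Matrix.mulVec, dotProduct, Pi.smul_apply, smul_eq_mul]
    exact Finset.sum_congr rfl fun k _ => mul_comm _ _
  · rintro _ ⟨w, rfl⟩
    have h1 : G.mulVecLin w = ∑ k, w k • (Pi.single (ρ k) 1 - sec e B (a *ᵥ Pi.single (ρ k) 1) : ι → B) := by
      rw [Matrix.mulVecLin_apply]
      ext i
      rw [Finset.sum_apply]
      simp only [Matrix.mulVec, dotProduct, Pi.smul_apply, smul_eq_mul]
      exact Finset.sum_congr rfl fun k _ => mul_comm _ _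
    rw [h1]
    exact Submodule.sum_mem _ fun k _ => Submodule.smul_mem _ _ (ha.sub_mem _)

end Graph

section Local

variable {B : Type u} [CommRing B] {ι : Type} [Fintype ι] [DecidableEq ι] {r d : ℕ}

/-- Locally around a prime, a submodule with projective quotient is a graph. -/
theorem exists_graph_of_prime {L : Submodule B (ι → B)} (hL : IsQuotRank d L) (hd : d + r = Fintype.card ι)
    (p : Ideal B) [p.IsPrime] : ∃ s : B, s ∉ p ∧ ∃ (ρ : Fin r → ι) (G : Matrix ι (Fin r) (Localization.Away s)),
      IsGraphOf ρ G (bcAway s L) := by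
  let K := p.ResidueField
  have hK : IsQuotRank d (bc (algebraMap B K) L) := hL.bc _
  obtain ⟨e, he⟩ := exists_chart_of_field hK
  rw [← bc_coordSub e (algebraMap B K), ← bc_sup, bc_eq_top_iff] at he
  have h1 : ¬ topIdeal (L ⊔ coordSub B e) ≤ p := by
    intro h
    have h2 : (topIdeal (L ⊔ coordSub B e)).map (algebraMap B K) ≤ ⊥ := by
      rw [Ideal.map_le_iff_le_comap]
      intro x hx
      rw [Ideal.mem_comap, Ideal.mem_bot]
      exact (Ideal.algebraMap_residueField_eq_zero).2 (h hx)
    rw [he, top_le_iff] at h2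
    exact bot_ne_top h2
  obtain ⟨s, hs, hsp⟩ := Set.not_subset.1 h1
  refine ⟨s, hsp, ?_⟩
  have h2 : bcAway s L ⊔ coordSub (Localization.Away s) e = ⊤ := by
    rw [← bc_coordSub e (algebraMap B (Localization.Away s)), bcAway, ← bc_sup, bc_eq_top_iff,
      Ideal.eq_top_iff_one]
    have h3 : algebraMap B (Localization.Away s) s ∈
      (topIdeal (L ⊔ coordSub B e)).map (algebraMap B (Localization.Away s)) := Ideal.mem_map_of_mem _ hs
    have h4 : IsUnit (algebraMap B (Localization.Away s) s) := IsLocalization.Away.algebraMap_isUnit s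
    obtain ⟨u, hu⟩ := h4
    rw [← hu] at h3
    have h5 := Ideal.mul_mem_left _ (↑u⁻¹ : Localization.Away s) h3
    rwa [Units.inv_mul] at h5
  have h3 : IsQuotRank d (bcAway s L) := hL.bc _
  obtain ⟨a, ha, hker⟩ := Groth.Agent.Fga.GrassChart.IsQuotRank.exists_isNorm h3 h2
  have : Nontrivial (Localization.Away s) := by
    rw [← not_subsingleton_iff_nontrivial]
    intro hsub
    have h4 : (0 : B) ∈ Submonoid.powers s := (IsLocalization.subsingleton_iff (M := Submonoid.powers s) (S := Localization.Away s)).1 hsub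
    obtain ⟨k, hk⟩ := h4
    have h5 : s ^ k ∈ p := by
      have h6 : s ^ k = 0 := hk
      rw [h6]
      exact p.zero_mem
    exact hsp (Ideal.IsPrime.mem_of_pow_mem inferInstance _ h5)
  rw [← hker]
  exact exists_graph_of_isNorm ha hd

end Local

end K821.GraphForm
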